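import Cfsg.Agent.Lib.G2Fusion.Involutions
import Cfsg.Agent.Lib.Fusion.ThompsonTransfer
import Cfsg.Agent.Lib.Invol.GlaubermanZStar
import Cfsg.Agent.Lib.TwoFusion.FusionTools

/-!
Classes of involutions of a simple group with Sylow 2-subgroup of type G₂(q).
-/

set_option autoImplicit false
set_option linter.unusedSectionVars false

namespace CfsgLib.G2Fusion

variable {G : Type*} [Group G] [Finite G] [IsSimpleGroup G] {n : ℕ} {R : Rel G n} {S : Sylow 2 G}

theorem Rel.El_mem_of_full (hf : R.Full S) (v : Vec n) (c d : Bool) : R.El v c d ∈ (S : Subgroup G) :=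
  (hf _).2 ⟨v, c, d, rfl⟩

theorem Rel.Z_comm (v : Vec n) (c d : Bool) : R.Z * R.El v c d = R.El v c d * R.Z := by
  rw [Rel.Z, R.El_commute_iff]
  cases c <;> cases d <;> simp [R.neg_half, add_comm]

theorem Rel.Z_ne_one : R.Z ≠ 1 := fun h => by
  rw [Rel.Z, ← R.El_one] at h
  exact R.half_ne (Prod.ext_iff.1 (R.El_inj h).1).1

theorem Rel.Z_sq : R.Z * R.Z = 1 := by
  rw [Rel.Z, R.El_sq_iff]; simp [R.half_add]

theorem Rel.W_sq : R.W * R.W = 1 := by
  rw [Rel.W, R.El_sq_iff]; simp [R.half_add]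

theorem Rel.W_ne_one : R.W ≠ 1 := fun h => by
  rw [Rel.W, ← R.El_one] at h
  exact R.half_ne (Prod.ext_iff.1 (R.El_inj h).1).1

theorem Rel.W_ne_Z : R.W ≠ R.Z := fun h => by
  rw [Rel.W, Rel.Z] at h
  exact R.half_ne (Prod.ext_iff.1 (R.El_inj h).1).2.symm

theorem Rel.W_mul_W' : R.W * R.W' = R.Z := by
  simp [Rel.W, Rel.W', Rel.Z, Rel.El_mul]

theorem Rel.four_le_card (hf : R.Full S) : 4 ≤ Nat.card G := by
  have h1 : Nat.card R.sub ≤ Nat.card G := Subgroup.card_le_card_group _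
  rw [R.card_sub] at h1
  have := Nat.pow_le_pow_right two_pos (show 2 ≤ 2 * n + 2 by omega)
  omega

theorem mul_self_of_two {x : G} (hx : orderOf x = 2) : x * x = 1 := by
  rw [← sq, ← hx, pow_orderOf_eq_one]

theorem conj_sq {x : G} (g : G) (hx : x * x = 1) : g * x * g⁻¹ * (g * x * g⁻¹) = 1 := by
  rw [show g * x * g⁻¹ * (g * x * g⁻¹) = g * (x * x) * g⁻¹ by group, hx]
  group

theorem conj_ne_one {x : G} (g : G) (hx : x ≠ 1) : g * x * g⁻¹ ≠ 1 := fun h => hx (conj_eq_one_iff.1 h)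

/-- The transfer argument. -/
theorem transfer (hf : R.Full S) (α β γ : ZMod 2) {v : Vec n} {c d : Bool}
    (hsq : R.El v c d * R.El v c d = 1)
    (h1 : α * (par R v.1 + par R v.2) + β * bit c + γ * bit d = 1) :
    ∃ (v' : Vec n) (c' d' : Bool), α * (par R v'.1 + par R v'.2) + β * bit c' + γ * bit d' = 0 ∧
      R.El v' c' d' * R.El v' c' d' = 1 ∧ R.El v' c' d' ≠ 1 ∧
      IsConj (R.El v c d) (R.El v' c' d') := by
  let χ : Vec n → Bool → Bool → ZMod 2 := fun u a b => α * (par R u.1 + par R u.2) + β * bit a + γ * bit b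
  have hadd : ∀ u a b u' a' b', χ (u + act a b u') (a ^^ a') (b ^^ b') = χ u a b + χ u' a' b' := by
    intro u a b u' a' b'
    simp only [χ, Prod.fst_add, Prod.snd_add, map_add, bit_xor]
    linear_combination α * R.par_act a b u'
  let Q : Subgroup G :=
    { carrier := {x | ∃ u a b, x = R.El u a b ∧ χ u a b = 0}
      one_mem' := ⟨0, false, false, R.El_one.symm, by simp [χ, bit]⟩
      mul_mem' := by
        rintro _ _ ⟨u, a, b, rfl, e⟩ ⟨u', a', b', rfl, e'⟩
        exact ⟨_, _, _, R.El_mul u u' a b a' b', by rw [hadd, e, e', add_zero]⟩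
      inv_mem' := by
        rintro _ ⟨u, a, b, rfl, e⟩
        refine ⟨_, _, _, R.El_inv u a b, ?_⟩
        have h := hadd (-act a b u) a b u a b
        rw [neg_add_cancel, Bool.xor_self, Bool.xor_self, e, add_zero] at h
        rw [← h]; simp [χ, bit] }
  have hQ : Q.relIndex (S : Subgroup G) = 2 := by
    rw [Subgroup.relIndex, Subgroup.index_eq_two_iff]
    refine ⟨⟨R.El v c d, R.El_mem_of_full hf v c d⟩, fun x => ?_⟩
    obtain ⟨u, a, b, hx⟩ := (hf x.1).1 x.2
    have hiff : ∀ u' a' b', R.El u' a' b' ∈ Q ↔ χ u' a' b' = 0 := fun u' a' b' => by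
      refine ⟨?_, fun h => ⟨u', a', b', rfl, h⟩⟩
      rintro ⟨p, p', p'', hp, e⟩
      obtain ⟨rfl, rfl, rfl⟩ := R.El_inj hp
      exact e
    simp only [Subgroup.mem_subgroupOf, Subgroup.coe_mul, hx]
    rw [R.El_mul, hiff, hiff, hadd, show χ v c d = 1 from h1]
    rcases zmod2_cases (χ u a b) with e | e <;> rw [e]
    · exact Or.inr ⟨rfl, by decide⟩
    · exact Or.inl ⟨by decide, one_ne_zero⟩
  by_contra hcon
  push Not at hcon
  obtain ⟨M, hM, hMi, hMu⟩ := ThompsonTransfer.exists_normal_index_two (S : Subgroup G) Q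
    (TwoFusion.FusionTools.sylow_index_odd S) hQ (R.El v c d) (by rw [sq, hsq]) fun g hg => by
      obtain ⟨u, a, b, hg', e⟩ := hg
      refine hcon u a b e ?_ ?_ (isConj_iff.2 ⟨g, hg'⟩)
      · rw [← hg']; exact conj_sq g hsq
      · rw [← hg']
        refine conj_ne_one g fun h => ?_
        rw [← R.El_one] at h
        obtain ⟨rfl, rfl, rfl⟩ := R.El_inj h
        simp [bit] at h1
  rcases IsSimpleGroup.eq_bot_or_eq_top_of_normal M hM with rfl | rfl
  · rw [Subgroup.index_bot] at hMi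
    have := R.four_le_card hf
    omega
  · exact hMu (Subgroup.mem_top _)

/-- Conjugation of a centraliser in `S` of a conjugate of `Z`. -/
theorem map_to_Z (hf : R.Full S) {x : G} (hx : IsConj x R.Z) :
    ∃ g : G, g * x * g⁻¹ = R.Z ∧ ∀ a ∈ (S : Subgroup G), a * x = x * a → g * a * g⁻¹ ∈ (S : Subgroup G) := by
  obtain ⟨g0, hg0⟩ := isConj_iff.1 hx
  set M := Subgroup.centralizer ({R.Z} : Set G)
  have hSM : (S : Subgroup G) ≤ M := fun y hy => by
    obtain ⟨v, c, d, rfl⟩ := (hf y).1 hy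
    exact Subgroup.mem_centralizer_singleton_iff.2 (R.Z_comm v c d).symm
  let A : Subgroup G := ((S : Subgroup G) ⊓ Subgroup.centralizer ({x} : Set G)).map (MulAut.conj g0).toMonoidHom
  have hA : A ≤ M := by
    rintro _ ⟨y, hy, rfl⟩
    refine Subgroup.mem_centralizer_singleton_iff.2 ?_
    have hc := Subgroup.mem_centralizer_singleton_iff.1 hy.2
    show g0 * y * g0⁻¹ * R.Z = R.Z * (g0 * y * g0⁻¹)
    rw [← hg0, show g0 * y * g0⁻¹ * (g0 * x * g0⁻¹) = g0 * (y * x) * g0⁻¹ by group, hc]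
    group
  have hodd : Odd ((S : Subgroup G).relIndex M) := (TwoFusion.FusionTools.sylow_index_odd S).of_dvd_nat
    ⟨M.index, (Subgroup.relIndex_mul_index hSM).symm⟩
  obtain ⟨k, hk, hk'⟩ := TwoFusion.FusionTools.exists_conj_le M S A S.isPGroup' hSM hodd
    ((S.isPGroup'.to_le inf_le_left).map _) hA
  refine ⟨k * g0, ?_, fun a ha hax => ?_⟩
  · rw [show k * g0 * x * (k * g0)⁻¹ = k * (g0 * x * g0⁻¹) * k⁻¹ by group, hg0,
      Subgroup.mem_centralizer_singleton_iff.1 hk, mul_inv_cancel_right]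
  · rw [show k * g0 * a * (k * g0)⁻¹ = k * (g0 * a * g0⁻¹) * k⁻¹ by group]
    exact hk' _ ⟨a, ⟨ha, Subgroup.mem_centralizer_singleton_iff.2 hax⟩, rfl⟩

/-- A commutator of elements of `S` is in the abelian part. -/
theorem comm_form (hf : R.Full S) {a b : G} (ha : a ∈ (S : Subgroup G)) (hb : b ∈ (S : Subgroup G)) :
    ∃ v, a * b * a⁻¹ * b⁻¹ = R.El v false false := by
  obtain ⟨u, c, d, rfl⟩ := (hf a).1 ha
  obtain ⟨u', c', d', rfl⟩ := (hf b).1 hb
  rw [R.El_conj, R.El_inv, R.El_mul, Bool.xor_self, Bool.xor_self]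
  exact ⟨_, rfl⟩

theorem t_cases {v : Vec n} (h : R.El v false false * R.El v false false = 1)
    (h1 : R.El v false false ≠ 1) (hz : R.El v false false ≠ R.Z) :
    IsConj (R.El v false false) R.W := by
  rcases R.sq_cases h with ⟨-, -, ha, hb⟩ | ⟨h', -⟩ | ⟨-, h', -⟩ | ⟨h', -, -⟩
  · obtain ⟨a, b⟩ := v
    rcases ha with rfl | rfl <;> rcases hb with rfl | rfl
    · exact absurd R.El_one h1
    · exact R.W_W'.symm
    · exact IsConj.refl _
    · exact absurd rfl hz
  all_goals simp at h'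

theorem W_of_comm (hf : R.Full S) {x a b : G} (hne : x ≠ R.Z) (hx : IsConj x R.Z)
    (ha : a ∈ (S : Subgroup G)) (hb : b ∈ (S : Subgroup G)) (hax : a * x = x * a) (hbx : b * x = x * b)
    (hab : a * b * a⁻¹ * b⁻¹ = R.Z) : IsConj R.Z R.W := by
  obtain ⟨g, hg, hmap⟩ := map_to_Z hf hx
  obtain ⟨v, hv⟩ := comm_form hf (hmap a ha hax) (hmap b hb hbx)
  have hv' : R.El v false false = g * R.Z * g⁻¹ := by rw [← hv, ← hab]; group
  refine (isConj_iff.2 ⟨g, hv'.symm⟩ : IsConj R.Z _).trans (t_cases ?_ ?_ ?_)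
  · rw [hv']; exact conj_sq g R.Z_sq
  · rw [hv']; exact conj_ne_one g R.Z_ne_one
  · rw [hv']
    exact fun h => hne ((MulAut.conj g).injective (hg.trans h.symm))

theorem not_conj_C (hf : R.Full S) (hzw : ¬ IsConj R.Z R.W) (e : ZMod (2 ^ n)) : ¬ IsConj (R.C e) R.Z := by
  intro h
  refine hzw (W_of_comm hf ?_ h (R.El_mem_of_full hf (half n, 0) false false)
    (R.El_mem_of_full hf 0 false true) ?_ ?_ ?_)
  · intro h'; rw [Rel.C, Rel.Z] at h'; simpa using (R.El_inj h').2.1
  · rw [Rel.C, R.El_commute_iff]; simp [R.neg_half, add_comm]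
  · rw [Rel.C, R.El_commute_iff]; simp
  · rw [R.El_conj, R.El_inv, R.El_mul, Rel.Z]; simp [R.neg_half]

theorem not_conj_Sw (hf : R.Full S) (hzw : ¬ IsConj R.Z R.W) : ¬ IsConj R.Sw R.Z := by
  intro h
  refine hzw (W_of_comm hf ?_ h (R.El_mem_of_full hf (quarter n, quarter n) false false)
    (R.El_mem_of_full hf 0 true false) ?_ ?_ ?_)
  · intro h'; rw [Rel.Sw, Rel.Z] at h'; simpa using (R.El_inj h').2.2
  · rw [Rel.Sw, R.El_commute_iff]; simp
  · rw [Rel.Sw, R.El_commute_iff]; simp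
  · rw [R.El_conj, R.El_inv, R.El_mul, Rel.Z]; simp [R.quarter_add]

theorem not_conj_IS (hf : R.Full S) (hzw : ¬ IsConj R.Z R.W) : ¬ IsConj R.IS R.Z := by
  intro h
  refine hzw (W_of_comm hf ?_ h (R.El_mem_of_full hf (quarter n, -quarter n) false false)
    (R.El_mem_of_full hf 0 true false) ?_ ?_ ?_)
  · intro h'; rw [Rel.IS, Rel.Z] at h'; simpa using (R.El_inj h').2.1
  · rw [Rel.IS, R.El_commute_iff]; simp
  · rw [Rel.IS, R.El_commute_iff]; simp
  · rw [R.El_conj, R.El_inv, R.El_mul, Rel.Z]; simp [R.quarter_add, show -quarter n - quarter n = half n by rw [← neg_add', R.quarter_add, R.neg_half]]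

theorem not_conj_C10 (hf : R.Full S) (hzw : ¬ IsConj R.Z R.W) : ¬ IsConj R.C10 R.Z := by
  intro h
  obtain ⟨g, hg, hmap⟩ := map_to_Z hf h
  have hcw : R.W * R.C10 = R.C10 * R.W := by
    rw [Rel.W, Rel.C10, R.El_commute_iff]; simp [R.neg_half, add_comm]
  set X := g * R.W * g⁻¹ with hX
  obtain ⟨v, c, d, hv⟩ := (hf (R.Z * X)).1
    (mul_mem (R.El_mem_of_full hf _ false false) (hmap _ (R.El_mem_of_full hf _ _ _) hcw))
  have hY : R.Z * X = g * (R.C10 * R.W) * g⁻¹ := by rw [← hg, hX]; group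
  have hX2 : IsConj X R.W := (isConj_iff.2 ⟨g, rfl⟩ : IsConj R.W X).symm
  have hcwc : IsConj (R.C10 * R.W) R.C10 := by
    rw [Rel.W, Rel.C10, R.El_mul]
    exact R.iconj (by simp [R.neg_half, R.par_half]) (by simp)
  have hYZ : IsConj (R.El v c d) R.Z := by
    rw [← hv, hY]
    exact ((isConj_iff.2 ⟨g, rfl⟩ : IsConj (R.C10 * R.W) _).symm.trans hcwc).trans h
  have hsq : R.El v c d * R.El v c d = 1 := by
    rw [← hv, hY]
    refine conj_sq g ?_
    rw [show R.C10 * R.W * (R.C10 * R.W) = R.C10 * (R.W * R.C10) * R.W by group, hcw,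
      show R.C10 * (R.C10 * R.W) * R.W = R.C10 * R.C10 * (R.W * R.W) by group, R.W_sq, Rel.C10,
      (R.El_sq_iff _ _ _).2 (by simp), mul_one]
  rcases R.sq_cases hsq with ⟨rfl, rfl, -, -⟩ | ⟨rfl, rfl⟩ | ⟨rfl, rfl, hv'⟩ | ⟨rfl, rfl, hv'⟩
  · by_cases h1 : R.El v false false = R.Z
    · rw [h1] at hv
      have : X = 1 := mul_left_cancel (hv.trans (mul_one _).symm)
      exact conj_ne_one g R.W_ne_one this
    · exact hzw (hYZ.symm.trans (t_cases hsq (fun e => R.Z_ne_one (isConj_one_right.1 (e ▸ hYZ))) h1))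
  · have hXeq : X = R.El ((half n, half n) + v) true false := by
      have h' := congrArg (R.Z * ·) hv
      simp only [← mul_assoc, R.Z_sq, one_mul] at h'
      rw [h', Rel.Z, R.El_mul]; rfl
    refine hzw (hYZ.symm.trans (IsConj.trans ?_ hX2))
    rw [hXeq]
    exact R.iconj (by simp [R.par_half]) (by simp [R.par_half])
  · exact not_conj_Sw hf hzw ((isConj_iff.2 ⟨_, R.s_conj hv'⟩ : IsConj _ R.Sw).symm.trans hYZ)
  · exact not_conj_IS hf hzw ((isConj_iff.2 ⟨_, R.is_conj hv'⟩ : IsConj _ R.IS).symm.trans hYZ)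

/-- The central involution is fused to the other involutions of the abelian part. -/
theorem conj_Z_W (hf : R.Full S) : IsConj R.Z R.W := by
  by_contra hzw
  have hord : orderOf R.Z = 2 := orderOf_eq_prime (by rw [sq, R.Z_sq]) R.Z_ne_one
  obtain ⟨N, hN, hodd, hcomm⟩ := Invol.zStar_sylow S R.Z hord fun g hg => by
    obtain ⟨v, c, d, hv⟩ := (hf _).1 hg
    have hx : IsConj (R.El v c d) R.Z := (isConj_iff.2 ⟨g, hv⟩ : IsConj R.Z _).symm
    have hsq : R.El v c d * R.El v c d = 1 := by rw [← hv]; exact conj_sq g R.Z_sq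
    rw [hv]
    rcases R.inv_cases hsq with e | e | e | e | e | e | e | e
    · exact absurd (isConj_one_right.1 (e ▸ hx)) R.Z_ne_one
    · exact e
    · exact absurd (hx.symm.trans e) hzw
    · exact absurd (e.symm.trans hx) (not_conj_C hf hzw 0)
    · exact absurd (e.symm.trans hx) (not_conj_C hf hzw 1)
    · exact absurd (e.symm.trans hx) (not_conj_C10 hf hzw)
    · exact absurd (e.symm.trans hx) (not_conj_Sw hf hzw)
    · exact absurd (e.symm.trans hx) (not_conj_IS hf hzw)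
  rcases IsSimpleGroup.eq_bot_or_eq_top_of_normal N hN with rfl | rfl
  · have hcen : R.Z ∈ Subgroup.center G := Subgroup.mem_center_iff.2 fun g => by
      have h := Subgroup.mem_bot.1 (hcomm g)
      rw [mul_inv_eq_one, mul_inv_eq_iff_eq_mul] at h
      exact h.symm
    rcases IsSimpleGroup.eq_bot_or_eq_top_of_normal (Subgroup.center G) inferInstance with e | e
    · exact R.Z_ne_one (Subgroup.mem_bot.1 (e ▸ hcen))
    · have h := Subgroup.mem_center_iff.1 (e ▸ Subgroup.mem_top R.W : R.W ∈ Subgroup.center G) R.Sw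
      rw [Rel.W, Rel.Sw, R.El_commute_iff] at h
      simp [Prod.ext_iff] at h
      exact R.half_ne h.2
  · rw [Subgroup.card_top] at hodd
    exact Nat.not_even_iff_odd.2 hodd (even_iff_two_dvd.2 (hord ▸ orderOf_dvd_natCard R.Z))

theorem isConj_Z_of_T (hf : R.Full S) {v : Vec n} (h : R.El v false false * R.El v false false = 1)
    (h1 : R.El v false false ≠ 1) : IsConj (R.El v false false) R.Z := by
  by_cases hz : R.El v false false = R.Z
  · rw [hz]
  · exact (t_cases h h1 hz).trans (conj_Z_W hf).symm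

theorem C_or_Sw (hf : R.Full S) (e : ZMod (2 ^ n)) : IsConj (R.C e) R.Z ∨ IsConj (R.C e) R.Sw := by
  obtain ⟨v', c', d', hχ, hsq, h1, hc⟩ := transfer hf 0 1 0 (v := (e, e)) (c := true) (d := false)
    (by rw [R.El_sq_iff]; simp) (by simp [bit])
  rcases R.sq_cases hsq with ⟨rfl, rfl, -, -⟩ | ⟨rfl, rfl⟩ | ⟨rfl, rfl, hv⟩ | ⟨rfl, rfl, hv⟩
  · exact Or.inl (hc.trans (isConj_Z_of_T hf hsq h1))
  · simp [bit] at hχ
  · exact Or.inr (hc.trans (isConj_iff.2 ⟨_, R.s_conj hv⟩))
  · simp [bit] at hχ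

theorem C_or_IS (hf : R.Full S) (e : ZMod (2 ^ n)) : IsConj (R.C e) R.Z ∨ IsConj (R.C e) R.IS := by
  obtain ⟨v', c', d', hχ, hsq, h1, hc⟩ := transfer hf 0 1 1 (v := (e, e)) (c := true) (d := false)
    (by rw [R.El_sq_iff]; simp) (by simp [bit])
  rcases R.sq_cases hsq with ⟨rfl, rfl, -, -⟩ | ⟨rfl, rfl⟩ | ⟨rfl, rfl, hv⟩ | ⟨rfl, rfl, hv⟩
  · exact Or.inl (hc.trans (isConj_Z_of_T hf hsq h1))
  · simp [bit] at hχ
  · simp [bit] at hχ
  · exact Or.inr (hc.trans (isConj_iff.2 ⟨_, R.is_conj hv⟩))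

theorem Z_or_C (hf : R.Full S) {v : Vec n} {c d : Bool} (hsq : R.El v c d * R.El v c d = 1)
    (h1 : (par R v.1 + par R v.2) + bit d = 1) :
    IsConj (R.El v c d) R.Z ∨ IsConj (R.El v c d) (R.C 0) ∨ IsConj (R.El v c d) (R.C 1) := by
  obtain ⟨v', c', d', hχ, hsq', h1', hc⟩ := transfer hf 1 0 1 hsq (by simpa using h1)
  simp only [one_mul, zero_mul, add_zero] at hχ
  rcases R.sq_cases hsq' with ⟨rfl, rfl, -, -⟩ | ⟨rfl, rfl⟩ | ⟨rfl, rfl, hv⟩ | ⟨rfl, rfl, hv⟩
  · exact Or.inl (hc.trans (isConj_Z_of_T hf hsq' h1'))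
  · have hp : par R v'.1 = par R v'.2 := by
      simp [bit] at hχ
      rw [eq_neg_of_add_eq_zero_left hχ, zmod2_neg]
    rcases R.C_of_par hp with e | e
    · exact Or.inr (Or.inl (hc.trans e))
    · exact Or.inr (Or.inr (hc.trans e))
  · exfalso
    rw [eq_neg_of_add_eq_zero_left hv, map_neg, zmod2_neg, CharTwo.add_self_eq_zero] at hχ
    simp [bit] at hχ
  · exfalso
    rw [hv, CharTwo.add_self_eq_zero] at hχ
    simp [bit] at hχ

/-- The centraliser of the swap in `S` is Sylow in the centraliser of the swap. -/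
theorem Sw_fully_centralized (hf : R.Full S) (h3 : 3 ≤ n) (hs : ¬ IsConj R.Sw R.Z) :
    Odd (((S : Subgroup G) ⊓ Subgroup.centralizer ({R.Sw} : Set G)).relIndex
      (Subgroup.centralizer ({R.Sw} : Set G))) := by
  classical
  set M := Subgroup.centralizer ({R.Sw} : Set G)
  set P := (S : Subgroup G) ⊓ M
  obtain ⟨R0, hR0, hR0M, hPR0, hodd, -⟩ :=
    TwoFusion.FusionTools.exists_sylow_in M P (S.isPGroup'.to_le inf_le_left) inf_le_right
  obtain ⟨h, -, hh⟩ := TwoFusion.FusionTools.exists_conj_le ⊤ (S : Subgroup G) R0 S.isPGroup' le_top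
    (by rw [Subgroup.relIndex_top_right]; exact TwoFusion.FusionTools.sylow_index_odd S) hR0 le_top
  have hSwP : R.Sw ∈ P := ⟨R.El_mem_of_full hf _ _ _, Subgroup.mem_centralizer_singleton_iff.2 rfl⟩
  obtain ⟨v, c, d, hv⟩ := (hf _).1 (hh _ (hPR0 hSwP))
  have hconj : IsConj R.Sw (R.El v c d) := isConj_iff.2 ⟨h, hv⟩
  have hsq : R.El v c d * R.El v c d = 1 := by
    rw [← hv]
    exact conj_sq h (by rw [Rel.Sw, R.El_sq_iff]; simp)
  obtain ⟨u, T, hT, hu⟩ : ∃ (u : G) (T : G), (T = R.Sw ∨ T = R.IS) ∧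
      u ∈ (S : Subgroup G) ∧ u * R.El v c d * u⁻¹ = T := by
    rcases R.sq_cases hsq with ⟨rfl, rfl, -, -⟩ | ⟨rfl, rfl⟩ | ⟨rfl, rfl, hv'⟩ | ⟨rfl, rfl, hv'⟩
    · exfalso
      refine hs (hconj.trans (isConj_Z_of_T hf hsq fun e => ?_))
      rw [← hv, conj_eq_one_iff, Rel.Sw, ← R.El_one] at e
      simpa using (R.El_inj e).2.2
    · exfalso
      have hpow : R.El (1, 1) false false ∈ P :=
        ⟨R.El_mem_of_full hf _ _ _, Subgroup.mem_centralizer_singleton_iff.2
          ((R.comm_Sw_iff _ _ _).2 rfl).symm⟩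
      obtain ⟨w, c', d', hw⟩ := (hf _).1 (hh _ (hPR0 hpow))
      have hcm : R.El v true false * R.El w c' d' = R.El w c' d' * R.El v true false := by
        have e := Subgroup.mem_centralizer_singleton_iff.1 hpow.2
        rw [← hv, ← hw]
        calc h * R.Sw * h⁻¹ * (h * R.El (1, 1) false false * h⁻¹)
            = h * (R.Sw * R.El (1, 1) false false) * h⁻¹ := by group
          _ = h * (R.El (1, 1) false false * R.Sw) * h⁻¹ := by rw [e]
          _ = _ := by group
      have h4 := R.pow_four_of_comm_inv hcm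
      rw [← hw] at h4
      have h4' : R.El (1, 1) false false * R.El (1, 1) false false *
          (R.El (1, 1) false false * R.El (1, 1) false false) = 1 :=
        (conj_eq_one_iff (a := h)).1 ((show _ = _ by group).trans h4)
      simp only [R.El_mul, Bool.xor_false, act_ff] at h4'
      rw [← R.El_one] at h4'
      have h5 : ((4 : ℕ) : ZMod (2 ^ n)) = 0 := by
        have := (Prod.ext_iff.1 (R.El_inj h4').1).1
        simp at this
        push_cast
        linear_combination this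
      rw [ZMod.natCast_eq_zero_iff] at h5
      have := Nat.le_of_dvd (by norm_num) h5
      have := Nat.pow_le_pow_right two_pos h3
      omega
    · exact ⟨_, _, Or.inl rfl, R.El_mem_of_full hf _ _ _, R.s_conj hv'⟩
    · exact ⟨_, _, Or.inr rfl, R.El_mem_of_full hf _ _ _, R.is_conj hv'⟩
  have hcard1 : Nat.card R0 ≤ Nat.card ((S : Subgroup G) ⊓ Subgroup.centralizer ({T} : Set G) : Subgroup G) := by
    refine Nat.card_le_card_of_injective (fun x => ⟨(u * h) * x.1 * (u * h)⁻¹, ?_, ?_⟩)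
      fun a b e => Subtype.ext (by simpa using congrArg Subtype.val e)
    · rw [show (u * h) * x.1 * (u * h)⁻¹ = u * (h * x.1 * h⁻¹) * u⁻¹ by group]
      exact (S : Subgroup G).mul_mem ((S : Subgroup G).mul_mem hu.1 (hh _ x.2)) ((S : Subgroup G).inv_mem hu.1)
    · refine Subgroup.mem_centralizer_singleton_iff.2 ?_
      have e := Subgroup.mem_centralizer_singleton_iff.1 (hR0M x.2)
      rw [← hu.2, ← hv]
      calc u * h * x.1 * (u * h)⁻¹ * (u * (h * R.Sw * h⁻¹) * u⁻¹)
          = u * h * (x.1 * R.Sw) * (u * h)⁻¹ := by group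
        _ = u * h * (R.Sw * x.1) * (u * h)⁻¹ := by rw [e]
        _ = _ := by group
  have hcard2 : Nat.card ((S : Subgroup G) ⊓ Subgroup.centralizer ({T} : Set G) : Subgroup G) ≤ Nat.card P := by
    rcases hT with rfl | rfl
    · exact le_rfl
    have hx : ∀ x : ((S : Subgroup G) ⊓ Subgroup.centralizer ({R.IS} : Set G) : Subgroup G),
        ∃ p : Vec n × Bool × Bool, x.1 = R.El p.1 p.2.1 p.2.2 ∧ p.1.1 + p.1.2 = 0 := by
      rintro ⟨x, hxS, hxC⟩
      obtain ⟨w, a, b, rfl⟩ := (hf x).1 hxS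
      exact ⟨(w, a, b), rfl, (R.comm_IS_iff w a b).1 (Subgroup.mem_centralizer_singleton_iff.1 hxC).symm⟩
    choose p hp hp' using hx
    refine Nat.card_le_card_of_injective (fun x => ⟨R.El ((p x).1.1, -(p x).1.2) (p x).2.1 (p x).2.2,
      R.El_mem_of_full hf _ _ _, Subgroup.mem_centralizer_singleton_iff.2
        ((R.comm_Sw_iff _ _ _).2 (eq_neg_of_add_eq_zero_left (hp' x))).symm⟩) fun a b e => ?_
    obtain ⟨e1, e2, e3⟩ := R.El_inj (congrArg Subtype.val e)
    apply Subtype.ext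
    rw [hp a, hp b, show (p a).1 = (p b).1 from Prod.ext (Prod.ext_iff.1 e1).1
      (neg_injective (Prod.ext_iff.1 e1).2), e2, e3]
  rwa [Subgroup.eq_of_le_of_card_ge hPR0 (hcard1.trans hcard2)]

/-- Two classes of involutions occur only for `n = 2`. -/
theorem eq_two (hf : R.Full S) (e : ZMod (2 ^ n)) (hC : ¬ IsConj (R.C e) R.Z) : n = 2 := by
  by_contra hn
  have h3 : 3 ≤ n := by have := R.hn; omega
  have hCs := (C_or_Sw hf e).resolve_left hC
  have hCis := (C_or_IS hf e).resolve_left hC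
  have hs : ¬ IsConj R.Sw R.Z := fun h => hC (hCs.trans h)
  have his : ¬ IsConj R.IS R.Z := fun h => hC (hCis.trans h)
  obtain ⟨g0, hg0⟩ := isConj_iff.1 hCs
  set M := Subgroup.centralizer ({R.Sw} : Set G)
  let A : Subgroup G :=
    ((S : Subgroup G) ⊓ Subgroup.centralizer ({R.C e} : Set G)).map (MulAut.conj g0).toMonoidHom
  have hA : A ≤ M := by
    rintro _ ⟨y, hy, rfl⟩
    refine Subgroup.mem_centralizer_singleton_iff.2 ?_
    have hc := Subgroup.mem_centralizer_singleton_iff.1 hy.2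
    show g0 * y * g0⁻¹ * R.Sw = R.Sw * (g0 * y * g0⁻¹)
    rw [← hg0, show g0 * y * g0⁻¹ * (g0 * R.C e * g0⁻¹) = g0 * (y * R.C e) * g0⁻¹ by group, hc]
    group
  obtain ⟨k, hk, hk'⟩ := TwoFusion.FusionTools.exists_conj_le M _ A (S.isPGroup'.to_le inf_le_left)
    inf_le_right (Sw_fully_centralized hf h3 hs) ((S.isPGroup'.to_le inf_le_left).map _) hA
  let φ : G ≃* G := MulAut.conj (k * g0)
  have hφ : ∀ x, φ x = k * (g0 * x * g0⁻¹) * k⁻¹ := fun x => by simp [φ, MulAut.conj_apply, mul_assoc]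
  have hφC : φ (R.C e) = R.Sw := by
    rw [hφ, hg0, Subgroup.mem_centralizer_singleton_iff.1 hk, mul_inv_cancel_right]
  have hφS : ∀ v c d, R.El v c d * R.C e = R.C e * R.El v c d →
      ∃ a c' d', φ (R.El v c d) = R.El (a, a) c' d' := by
    intro v c d hc
    have hm := hk' _ ⟨R.El v c d, ⟨R.El_mem_of_full hf v c d, Subgroup.mem_centralizer_singleton_iff.2 hc⟩, rfl⟩
    obtain ⟨⟨a, b⟩, c', d', hw⟩ := (hf _).1 hm.1
    have hw' : φ (R.El v c d) = R.El (a, b) c' d' := by rw [hφ]; exact hw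
    have hcomm := Subgroup.mem_centralizer_singleton_iff.1 hm.2
    rw [hw] at hcomm
    obtain rfl : a = b := (R.comm_Sw_iff (a, b) c' d').1 hcomm.symm
    exact ⟨a, c', d', hw'⟩
  have hW : R.W * R.C e = R.C e * R.W := by
    rw [Rel.W, Rel.C, R.El_commute_iff]; simp [R.neg_half, add_comm]
  have hW' : R.W' * R.C e = R.C e * R.W' := by
    rw [Rel.W', Rel.C, R.El_commute_iff]; simp [R.neg_half, add_comm]
  have hSw : R.Sw * R.C e = R.C e * R.Sw := by
    rw [Rel.Sw, Rel.C, R.El_commute_iff]; simp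
  have hZ : φ R.Z = R.Z := by
    have hcm : R.W * R.Sw * R.W⁻¹ * R.Sw⁻¹ = R.Z := by
      rw [Rel.W, Rel.Sw, Rel.Z, R.El_conj, R.El_inv, R.El_mul]; simp [R.neg_half]
    obtain ⟨a, c, d, ha⟩ := hφS _ _ _ (show R.Z * R.C e = R.C e * R.Z from R.Z_comm _ _ _)
    have hmemS : ∀ v c d, R.El v c d * R.C e = R.C e * R.El v c d →
        φ (R.El v c d) ∈ (S : Subgroup G) := fun v c d hc => by
      obtain ⟨a, c', d', h⟩ := hφS v c d hc
      rw [h]; exact R.El_mem_of_full hf _ _ _
    obtain ⟨v, hv⟩ := comm_form hf (hmemS _ _ _ hW) (hmemS _ _ _ hSw)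
    rw [← map_inv, ← map_inv, ← map_mul, ← map_mul, ← map_mul] at hv
    replace hv : φ R.Z = R.El v false false := by rw [← hcm]; exact hv
    obtain ⟨hv1, rfl, rfl⟩ := R.El_inj (hv.symm.trans ha)
    subst hv1
    have hsq : R.El (a, a) false false * R.El (a, a) false false = 1 := by
      rw [← hv, ← map_mul, R.Z_sq, map_one]
    rw [hv]
    rcases R.sq_cases hsq with ⟨-, -, rfl | rfl, -⟩ | ⟨h', -⟩ | ⟨-, h', -⟩ | ⟨h', -, -⟩
    · exact absurd (φ.injective (show φ R.Z = φ 1 by rw [hv, map_one]; exact R.El_one)) R.Z_ne_one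
    · rfl
    all_goals simp at h'
  have hclass : ∀ x, IsConj x R.W → x * x = 1 → φ x ≠ R.Z →
      ∀ a c d, φ x = R.El (a, a) c d → c = true ∧ d = false := by
    intro x hx hxx hne a c d ha
    have hK : IsConj (R.El (a, a) c d) R.Z := by
      rw [← ha]
      exact ((isConj_iff.2 ⟨k * g0, rfl⟩ : IsConj x (φ x)).symm.trans hx).trans (conj_Z_W hf).symm
    have hsq : R.El (a, a) c d * R.El (a, a) c d = 1 := by rw [← ha, ← map_mul, hxx, map_one]
    rcases R.sq_cases hsq with ⟨rfl, rfl, ha', -⟩ | h | ⟨rfl, rfl, hv⟩ | ⟨rfl, rfl, hv⟩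
    · exfalso
      rcases ha' with ha' | ha' <;> simp only at ha' <;> subst ha'
      · exact R.Z_ne_one (isConj_one_right.1 (R.El_one ▸ hK))
      · exact hne ha
    · exact h
    · exact absurd ((isConj_iff.2 ⟨_, R.s_conj hv⟩ : IsConj _ R.Sw).symm.trans hK) hs
    · exact absurd ((isConj_iff.2 ⟨_, R.is_conj hv⟩ : IsConj _ R.IS).symm.trans hK) his
  obtain ⟨a, c, d, ha⟩ := hφS _ _ _ hW
  obtain ⟨b, c', d', hb⟩ := hφS _ _ _ hW'
  obtain ⟨rfl, rfl⟩ := hclass R.W (IsConj.refl _) R.W_sq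
    (fun h => R.W_ne_Z (φ.injective (h.trans hZ.symm))) a c d ha
  obtain ⟨rfl, rfl⟩ := hclass R.W' R.W_W'.symm (by rw [Rel.W', R.El_sq_iff]; simp [R.half_add])
    (fun h => by
      have := φ.injective (h.trans hZ.symm)
      rw [Rel.W', Rel.Z] at this
      exact R.half_ne (Prod.ext_iff.1 (R.El_inj this).1).1.symm) b c' d' hb
  have hab : a - b = half n := by
    have h := map_mul φ R.W R.W'
    rw [R.W_mul_W', hZ] at h
    rw [show φ R.W = _ from ha, show φ R.W' = _ from hb, Rel.Z, R.El_mul] at h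
    have := (Prod.ext_iff.1 (R.El_inj h).1).1
    simp at this
    linear_combination -this
  obtain ⟨f, c, d, hf'⟩ := hφS _ _ _ hSw
  have hrel : R.El (f, f) c d * R.El (a, a) true false * (R.El (f, f) c d)⁻¹ = R.El (b, b) true false := by
    rw [← hf', ← ha, ← hb, ← map_inv, ← map_mul, ← map_mul]
    congr 1
    rw [R.El_conj]
    simp [Rel.W']
  have hff : R.El (f, f) c d * R.El (f, f) c d = 1 := by
    rw [← hf', ← map_mul, (R.El_sq_iff _ _ _).2 (by simp), map_one]
  rw [R.El_conj] at hrel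
  have e1 := (Prod.ext_iff.1 (R.El_inj hrel).1).1
  rw [R.El_sq_iff] at hff
  cases c with
  | false =>
    exfalso
    apply R.half_ne
    have e2 := (Prod.ext_iff.1 hff).1
    cases d <;> simp at e1 e2 <;> linear_combination e1 - e2 - hab
  | true =>
    have hda : par R f = par R a := by
      have hx : (f - a - quarter n) + (f - a - quarter n) = 0 := by
        have hq := R.quarter_add
        have hh := R.half_add
        cases d <;> simp at e1 <;> linear_combination e1 - hab - hq - hh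
      have hpq : par R (quarter n) = 0 := by
        rw [quarter, map_natCast, ZMod.natCast_eq_zero_iff]
        exact dvd_pow_self 2 (by omega)
      have hp0 : par R (f - a - quarter n) = 0 := by
        rcases R.two_mul_eq_zero hx with e' | e' <;> rw [e']
        · simp
        · exact R.par_half
      rw [map_sub, map_sub, hpq, sub_zero, sub_eq_zero] at hp0
      exact hp0
    have hfK : IsConj (R.El (f, f) true false) R.Z := by
      refine (R.iconj (v' := (a, a)) hda hda).trans ?_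
      rw [← ha]
      exact (isConj_iff.2 ⟨k * g0, rfl⟩ : IsConj R.W (φ R.W)).symm.trans (conj_Z_W hf).symm
    cases d with
    | false =>
      rw [← hf'] at hfK
      exact hs ((isConj_iff.2 ⟨k * g0, rfl⟩ : IsConj R.Sw (φ R.Sw)).trans hfK)
    | true =>
      have hprod : φ (R.C e * R.Sw) = R.El (f, f) true false := by
        rw [map_mul, hφC, show φ R.Sw = _ from hf', Rel.Sw, R.El_mul]
        simp
      rw [← hprod] at hfK
      have h1 := (isConj_iff.2 ⟨k * g0, rfl⟩ : IsConj (R.C e * R.Sw) (φ (R.C e * R.Sw))).trans hfK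
      rw [Rel.C, Rel.Sw, R.El_mul] at h1
      refine his (IsConj.trans ?_ h1)
      refine (isConj_iff.2 ⟨_, R.is_conj ?_⟩ : IsConj _ R.IS).symm
      simp

/-- One class of involutions, or `n = 2` and exactly two classes. -/
theorem classes (hf : R.Full S) :
    (∀ x y : G, orderOf x = 2 → orderOf y = 2 → IsConj x y) ∨
      (n = 2 ∧ ∃ x y : G, orderOf x = 2 ∧ orderOf y = 2 ∧ ¬ IsConj x y ∧
        ∀ z : G, orderOf z = 2 → IsConj z x ∨ IsConj z y) := by
  haveI : Fact (Nat.Prime 2) := ⟨Nat.prime_two⟩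
  have hred : ∀ z : G, orderOf z = 2 → ∀ p : G → Prop,
      (∀ a b, IsConj a b → p b → p a) →
      (∀ v c d, R.El v c d * R.El v c d = 1 → R.El v c d ≠ 1 → p (R.El v c d)) → p z := by
    intro z hz p hp hall
    obtain ⟨g, hg⟩ := TwoFusion.FusionTools.exists_conj_mem_sylow S z (d := 1) (by rw [hz, pow_one])
    obtain ⟨v, c, d, hv⟩ := (hf _).1 hg
    refine hp z _ (isConj_iff.2 ⟨g, hv⟩) (hall v c d ?_ ?_)
    · rw [← hv]; exact conj_sq g (mul_self_of_two hz)
    · rw [← hv]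
      refine conj_ne_one g fun h => ?_
      rw [h, orderOf_one] at hz; omega
  have hSw := Z_or_C hf (v := 0) (c := false) (d := true) (by rw [R.El_sq_iff]; simp) (by simp [bit])
  have hIS := Z_or_C hf (v := 0) (c := true) (d := true) (by rw [R.El_sq_iff]; simp) (by simp [bit])
  have hC10 := Z_or_C hf (v := (1, 0)) (c := true) (d := false) (by rw [R.El_sq_iff]; simp) (by simp [bit])
  have hordW : orderOf R.Z = 2 := orderOf_eq_prime (by rw [sq, R.Z_sq]) R.Z_ne_one
  by_cases hall : IsConj (R.C 0) R.Z ∧ IsConj (R.C 1) R.Z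
  · left
    have hto : ∀ {a : G}, IsConj a R.Z ∨ IsConj a (R.C 0) ∨ IsConj a (R.C 1) → IsConj a R.Z := by
      rintro a (h | h | h)
      · exact h
      · exact h.trans hall.1
      · exact h.trans hall.2
    have key : ∀ z : G, orderOf z = 2 → IsConj z R.Z := fun z hz =>
      hred z hz (IsConj · R.Z) (fun a b h h' => h.trans h') fun v c d hsq h1 => by
        rcases R.inv_cases hsq with e | e | e | e | e | e | e | e
        · exact absurd e h1
        · rw [e]
        · exact e.trans (conj_Z_W hf).symm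
        · exact e.trans hall.1
        · exact e.trans hall.2
        · exact e.trans (hto hC10)
        · exact e.trans (hto hSw)
        · exact e.trans (hto hIS)
    exact fun x y hx hy => (key x hx).trans (key y hy).symm
  · right
    obtain ⟨e, he⟩ : ∃ e, ¬ IsConj (R.C e) R.Z := by
      by_cases h0 : IsConj (R.C 0) R.Z
      · exact ⟨1, fun h => hall ⟨h0, h⟩⟩
      · exact ⟨0, h0⟩
    have hCs := (C_or_Sw hf e).resolve_left he
    have hCis := (C_or_IS hf e).resolve_left he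
    have hto : ∀ {a : G}, IsConj a R.Z ∨ IsConj a (R.C 0) ∨ IsConj a (R.C 1) →
        IsConj a R.Z ∨ IsConj a R.Sw := by
      rintro a (h | h | h)
      · exact Or.inl h
      · exact (C_or_Sw hf 0).imp h.trans h.trans
      · exact (C_or_Sw hf 1).imp h.trans h.trans
    refine ⟨eq_two hf e he, R.Z, R.Sw, hordW, ?_, fun h => he (hCs.trans h.symm), fun z hz => ?_⟩
    · refine orderOf_eq_prime (by rw [sq, Rel.Sw, R.El_sq_iff]; simp) fun h => ?_
      rw [Rel.Sw, ← R.El_one] at h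
      simpa using (R.El_inj h).2.2
    refine hred z hz (fun a => IsConj a R.Z ∨ IsConj a R.Sw) (fun a b h h' => h'.imp h.trans h.trans)
      fun v c d hsq h1 => ?_
    rcases R.inv_cases hsq with e' | e' | e' | e' | e' | e' | e' | e'
    · exact absurd e' h1
    · exact Or.inl (e' ▸ IsConj.refl _)
    · exact Or.inl (e'.trans (conj_Z_W hf).symm)
    · exact (C_or_Sw hf 0).imp e'.trans e'.trans
    · exact (C_or_Sw hf 1).imp e'.trans e'.trans
    · exact (hto hC10).imp e'.trans e'.trans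
    · exact Or.inr e'
    · exact Or.inr (e'.trans (hCis.symm.trans hCs))

end CfsgLib.G2Fusion
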