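import Cfsg.Agent.Lib.G2Fusion.Model

/-!
The involutions of the model 2-group and their classes within it.
-/

set_option autoImplicit false

namespace CfsgLib.G2Fusion

variable {G : Type*} [Group G] {n : ℕ}

/-- Parity of a coordinate. -/
noncomputable def par (R : Rel G n) : ZMod (2 ^ n) →+* ZMod 2 :=
  ZMod.castHom (dvd_pow_self 2 (by have := R.hn; omega)) (ZMod 2)

/-- A bit as an integer modulo 2. -/
def bit (c : Bool) : ZMod 2 := if c then 1 else 0

theorem bit_xor (c c' : Bool) : bit (c ^^ c') = bit c + bit c' := by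
  cases c <;> cases c' <;> simp [bit]; decide

theorem zmod2_neg (a : ZMod 2) : -a = a := by revert a; decide

theorem zmod2_cases (a : ZMod 2) : a = 0 ∨ a = 1 := by revert a; decide

/-- The element of order two. -/
def half (n : ℕ) : ZMod (2 ^ n) := ((2 ^ (n - 1) : ℕ) : ZMod (2 ^ n))

/-- The element of order four. -/
def quarter (n : ℕ) : ZMod (2 ^ n) := ((2 ^ (n - 2) : ℕ) : ZMod (2 ^ n))

namespace Rel

variable (R : Rel G n)

include R in
theorem two_mul_eq_zero {a : ZMod (2 ^ n)} (h : a + a = 0) : a = 0 ∨ a = half n := by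
  have hn := R.hn
  haveI : NeZero (2 ^ n) := ⟨(Nat.two_pow_pos n).ne'⟩
  have hv := a.val_lt
  have h' : ((a.val + a.val : ℕ) : ZMod (2 ^ n)) = 0 := by rw [Nat.cast_add, ZMod.natCast_zmod_val]; exact h
  rw [ZMod.natCast_eq_zero_iff] at h'
  have hp : 2 ^ n = 2 * 2 ^ (n - 1) := by rw [← pow_succ', show n - 1 + 1 = n by omega]
  obtain ⟨k, hk⟩ := h'
  rcases k with _ | _ | k
  · left; rw [← ZMod.natCast_zmod_val a, show a.val = 0 by omega, Nat.cast_zero]
  · right; rw [← ZMod.natCast_zmod_val a, half]; congr 1; omega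
  · exfalso; nlinarith

include R in
theorem half_add : half n + half n = 0 := by
  have hn := R.hn
  rw [half, ← Nat.cast_add, ← two_mul, ← pow_succ', show n - 1 + 1 = n by omega, ZMod.natCast_self]

include R in
theorem half_ne : half n ≠ 0 := by
  have hn := R.hn
  intro h
  rw [half, ZMod.natCast_eq_zero_iff, Nat.pow_dvd_pow_iff_le_right (by norm_num)] at h
  omega

include R in
theorem neg_half : -half n = half n := neg_eq_of_add_eq_zero_left R.half_add

include R in
theorem quarter_add : quarter n + quarter n = half n := by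
  have hn := R.hn
  rw [quarter, half, ← Nat.cast_add, ← two_mul, ← pow_succ', show n - 2 + 1 = n - 1 by omega]

theorem par_half : par R (half n) = 0 := by
  have hn := R.hn
  rw [half, map_natCast, ZMod.natCast_eq_zero_iff]
  exact dvd_pow_self 2 (by omega)

theorem par_double (a : ZMod (2 ^ n)) : par R (a + a) = 0 := by
  rw [map_add]; exact CharTwo.add_self_eq_zero _

theorem exists_double {a : ZMod (2 ^ n)} (h : par R a = 0) : ∃ b, a = b + b := by
  haveI : NeZero (2 ^ n) := ⟨(Nat.two_pow_pos n).ne'⟩
  rw [← ZMod.natCast_zmod_val a, map_natCast, ZMod.natCast_eq_zero_iff] at h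
  obtain ⟨k, hk⟩ := h
  exact ⟨(k : ZMod (2 ^ n)), by rw [← Nat.cast_add, ← two_mul, ← hk, ZMod.natCast_zmod_val]⟩

theorem par_act (c d : Bool) (v : Vec n) :
    par R (act c d v).1 + par R (act c d v).2 = par R v.1 + par R v.2 := by
  cases c <;> cases d <;> simp [zmod2_neg, add_comm]

/-- `Z`, the central involution. -/
def Z : G := R.El (half n, half n) false false
/-- The other involution of the abelian part. -/
def W : G := R.El (half n, 0) false false
/-- Its conjugate under the swap. -/
def W' : G := R.El (0, half n) false false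
/-- Inversions times a diagonal element. -/
def C (e : ZMod (2 ^ n)) : G := R.El (e, e) true false
/-- The inversion times a non-diagonal element. -/
def C10 : G := R.El (1, 0) true false
/-- The swap. -/
def Sw : G := R.El 0 false true
/-- The swap times the inversion. -/
def IS : G := R.El 0 true true

theorem iconj {v v' : Vec n} (h1 : par R v.1 = par R v'.1) (h2 : par R v.2 = par R v'.2) :
    IsConj (R.El v true false) (R.El v' true false) := by
  obtain ⟨a, ha⟩ := R.exists_double (a := v'.1 - v.1) (by rw [map_sub, h1, sub_self])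
  obtain ⟨b, hb⟩ := R.exists_double (a := v'.2 - v.2) (by rw [map_sub, h2, sub_self])
  refine isConj_iff.2 ⟨R.El (a, b) false false, ?_⟩
  rw [El_conj, act_ff, act_tf]
  congr 1
  ext <;> simp
  · linear_combination -ha
  · linear_combination -hb

theorem s_conj {v : Vec n} (h : v.1 + v.2 = 0) :
    R.El (-v.1, 0) false false * R.El v false true * (R.El (-v.1, 0) false false)⁻¹ = R.Sw := by
  rw [El_conj, act_ff, act_ft, Sw]
  congr 1
  ext <;> simp
  linear_combination h

theorem is_conj {v : Vec n} (h : v.1 = v.2) :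
    R.El (-v.1, 0) false false * R.El v true true * (R.El (-v.1, 0) false false)⁻¹ = R.IS := by
  rw [El_conj, act_ff, act_tt, IS]
  congr 1
  ext <;> simp [h]

theorem W_W' : IsConj R.W R.W' := by
  refine isConj_iff.2 ⟨R.Sw, ?_⟩
  rw [Sw, W, W', El_conj]
  congr 1
  simp

theorem sq_cases {v : Vec n} {c d : Bool} (h : R.El v c d * R.El v c d = 1) :
    (c = false ∧ d = false ∧ (v.1 = 0 ∨ v.1 = half n) ∧ (v.2 = 0 ∨ v.2 = half n)) ∨
      (c = true ∧ d = false) ∨ (c = false ∧ d = true ∧ v.1 + v.2 = 0) ∨
      (c = true ∧ d = true ∧ v.1 = v.2) := by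
  rw [R.El_sq_iff] at h
  cases c <;> cases d <;> simp [Prod.ext_iff] at h ⊢
  · exact ⟨R.two_mul_eq_zero h.1, R.two_mul_eq_zero h.2⟩
  · exact h.1
  · linear_combination h.1

theorem C_of_par {v : Vec n} (h : par R v.1 = par R v.2) :
    IsConj (R.El v true false) (R.C 0) ∨ IsConj (R.El v true false) (R.C 1) := by
  rcases zmod2_cases (par R v.1) with e | e
  · exact Or.inl (R.iconj (by simp [e]) (by simp [← h, e]))
  · exact Or.inr (R.iconj (by simp [e]) (by simp [← h, e]))

/-- Classes of involutions of the model. -/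
theorem inv_cases {v : Vec n} {c d : Bool} (h : R.El v c d * R.El v c d = 1) :
    R.El v c d = 1 ∨ R.El v c d = R.Z ∨ IsConj (R.El v c d) R.W ∨
      IsConj (R.El v c d) (R.C 0) ∨ IsConj (R.El v c d) (R.C 1) ∨ IsConj (R.El v c d) R.C10 ∨
      IsConj (R.El v c d) R.Sw ∨ IsConj (R.El v c d) R.IS := by
  rcases R.sq_cases h with ⟨rfl, rfl, ha, hb⟩ | ⟨rfl, rfl⟩ | ⟨rfl, rfl, hv⟩ | ⟨rfl, rfl, hv⟩
  · obtain ⟨a, b⟩ := v
    rcases ha with rfl | rfl <;> rcases hb with rfl | rfl
    · exact Or.inl R.El_one
    · exact Or.inr (Or.inr (Or.inl R.W_W'.symm))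
    · exact Or.inr (Or.inr (Or.inl (IsConj.refl _)))
    · exact Or.inr (Or.inl rfl)
  · refine Or.inr (Or.inr (Or.inr ?_))
    by_cases hp : par R v.1 = par R v.2
    · rcases R.C_of_par hp with e | e
      · exact Or.inl e
      · exact Or.inr (Or.inl e)
    · refine Or.inr (Or.inr (Or.inl ?_))
      rcases zmod2_cases (par R v.1) with e | e
      · have e2 : par R v.2 = 1 := (zmod2_cases _).resolve_left fun e' => hp (e.trans e'.symm)
        refine (R.iconj (v' := (0, 1)) (by simp [e]) (by simp [e2])).trans ?_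
        refine isConj_iff.2 ⟨R.Sw, ?_⟩
        rw [Sw, C10, El_conj]
        congr 1
        simp
      · have e2 : par R v.2 = 0 := (zmod2_cases _).resolve_right fun e' => hp (e.trans e'.symm)
        exact R.iconj (by simp [e]) (by simp [e2])
  · exact Or.inr (Or.inr (Or.inr (Or.inr (Or.inr (Or.inr (Or.inl (isConj_iff.2 ⟨_, R.s_conj hv⟩)))))))
  · exact Or.inr (Or.inr (Or.inr (Or.inr (Or.inr (Or.inr (Or.inr (isConj_iff.2 ⟨_, R.is_conj hv⟩)))))))

theorem comm_Sw_iff (v : Vec n) (c d : Bool) :
    R.Sw * R.El v c d = R.El v c d * R.Sw ↔ v.1 = v.2 := by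
  rw [Sw, R.El_commute_iff]
  cases c <;> cases d <;> simp [Prod.ext_iff] <;> tauto

theorem comm_IS_iff (v : Vec n) (c d : Bool) :
    R.IS * R.El v c d = R.El v c d * R.IS ↔ v.1 + v.2 = 0 := by
  rw [IS, R.El_commute_iff]
  cases c <;> cases d <;> simp [Prod.ext_iff] <;>
    exact ⟨fun h => by linear_combination (-1 : ZMod (2 ^ n)) * h.1, fun h => ⟨by linear_combination -h, by linear_combination -h⟩⟩

/-- Elements commuting with an inversion have order dividing 4. -/
theorem pow_four_of_comm_inv {v w : Vec n} {c d : Bool}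
    (h : R.El v true false * R.El w c d = R.El w c d * R.El v true false) :
    R.El w c d * R.El w c d * (R.El w c d * R.El w c d) = 1 := by
  rw [R.El_commute_iff] at h
  rw [El_mul, El_mul, ← R.El_one, Bool.xor_self, Bool.xor_self, Bool.xor_self]
  congr 1
  cases c <;> cases d <;> simp [Prod.ext_iff] at h ⊢ <;> obtain ⟨h1, h2⟩ := h
  · constructor <;> first
      | linear_combination (-2 : ZMod (2 ^ n)) * h1
      | linear_combination (-2 : ZMod (2 ^ n)) * h2
  · constructor <;> linear_combination (-1 : ZMod (2 ^ n)) * h1 - h2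
  · constructor <;> first
      | linear_combination (-1 : ZMod (2 ^ n)) * h1 + h2
      | linear_combination h1 - h2

end Rel

end CfsgLib.G2Fusion
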