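import Mathlib

/-!
The Sylow 2-group of G₂(q), q odd: `(C × C) ⋊ (C₂ × C₂)` with `C` cyclic of order `2 ^ n`.
-/

set_option autoImplicit false

namespace CfsgLib.G2Fusion

/-- Generators and relations of `(C × C) ⋊ (inversion, swap)`, `C` cyclic of order `2 ^ n`. -/
structure Rel (G : Type*) [Group G] (n : ℕ) where
  e1 : G
  e2 : G
  i : G
  s : G
  hn : 2 ≤ n
  comm : e1 * e2 = e2 * e1
  ii : i * i = 1
  ss : s * s = 1
  is_comm : i * s = s * i
  ie1 : i * e1 * i = e1⁻¹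
  ie2 : i * e2 * i = e2⁻¹
  se1 : s * e1 * s = e2
  indep : ∀ a b : ℤ, e1 ^ a * e2 ^ b = 1 ↔ ((2 ^ n : ℕ) : ℤ) ∣ a ∧ ((2 ^ n : ℕ) : ℤ) ∣ b

/-- Coordinates of the abelian part. -/
abbrev Vec (n : ℕ) := ZMod (2 ^ n) × ZMod (2 ^ n)

/-- The action of `i ^ c * s ^ d`. -/
def act {n : ℕ} (c d : Bool) (v : Vec n) : Vec n :=
  match c, d with
  | false, false => v
  | true, false => (-v.1, -v.2)
  | false, true => (v.2, v.1)
  | true, true => (-v.2, -v.1)

@[simp] theorem act_ff {n : ℕ} (v : Vec n) : act false false v = v := rfl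
@[simp] theorem act_tf {n : ℕ} (v : Vec n) : act true false v = (-v.1, -v.2) := rfl
@[simp] theorem act_ft {n : ℕ} (v : Vec n) : act false true v = (v.2, v.1) := rfl
@[simp] theorem act_tt {n : ℕ} (v : Vec n) : act true true v = (-v.2, -v.1) := rfl

theorem act_act {n : ℕ} (c d c' d' : Bool) (v : Vec n) :
    act c d (act c' d' v) = act (c ^^ c') (d ^^ d') v := by
  cases c <;> cases d <;> cases c' <;> cases d' <;> simp

theorem act_neg {n : ℕ} (c d : Bool) (v : Vec n) : act c d (-v) = -act c d v := by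
  cases c <;> cases d <;> simp

namespace Rel

variable {G : Type*} [Group G] {n : ℕ} (R : Rel G n)

/-- An element of the abelian part. -/
def el (v : Vec n) : G := R.e1 ^ v.1.val * R.e2 ^ v.2.val

theorem e_comm (a b : ℤ) : R.e2 ^ b * R.e1 ^ a = R.e1 ^ a * R.e2 ^ b :=
  ((Commute.zpow_zpow (show Commute R.e1 R.e2 from R.comm) a b).symm).eq

theorem el_int (a b : ℤ) : R.el ((a : ZMod (2 ^ n)), (b : ZMod (2 ^ n))) = R.e1 ^ a * R.e2 ^ b := by
  haveI : NeZero (2 ^ n) := ⟨(Nat.two_pow_pos n).ne'⟩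
  set a' : ℤ := (((a : ZMod (2 ^ n))).val : ℤ) with ha'
  set b' : ℤ := (((b : ZMod (2 ^ n))).val : ℤ) with hb'
  have ha : ((2 ^ n : ℕ) : ℤ) ∣ a' - a := by
    rw [← ZMod.intCast_zmod_eq_zero_iff_dvd, Int.cast_sub, ha', Int.cast_natCast, ZMod.natCast_zmod_val, sub_self]
  have hb : ((2 ^ n : ℕ) : ℤ) ∣ b' - b := by
    rw [← ZMod.intCast_zmod_eq_zero_iff_dvd, Int.cast_sub, hb', Int.cast_natCast, ZMod.natCast_zmod_val, sub_self]
  have h := (R.indep (a' - a) (b' - b)).2 ⟨ha, hb⟩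
  show R.e1 ^ (ZMod.val _) * R.e2 ^ (ZMod.val _) = _
  rw [← zpow_natCast, ← zpow_natCast, ← ha', ← hb']
  calc R.e1 ^ a' * R.e2 ^ b' = R.e1 ^ a * (R.e1 ^ (a' - a) * R.e2 ^ (b' - b)) * R.e2 ^ b := by group
    _ = _ := by rw [h, mul_one]

theorem exists_int (v : Vec n) : ∃ a b : ℤ, v = ((a : ZMod (2 ^ n)), (b : ZMod (2 ^ n))) :=
  ⟨(ZMod.intCast_surjective v.1).choose, (ZMod.intCast_surjective v.2).choose,
    Prod.ext (ZMod.intCast_surjective v.1).choose_spec.symm (ZMod.intCast_surjective v.2).choose_spec.symm⟩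

theorem el_add (v w : Vec n) : R.el (v + w) = R.el v * R.el w := by
  obtain ⟨a, b, rfl⟩ := exists_int v
  obtain ⟨c, d, rfl⟩ := exists_int w
  rw [Prod.mk_add_mk, ← Int.cast_add, ← Int.cast_add, el_int, el_int, el_int, zpow_add, zpow_add]
  calc R.e1 ^ a * R.e1 ^ c * (R.e2 ^ b * R.e2 ^ d) = R.e1 ^ a * (R.e1 ^ c * R.e2 ^ b) * R.e2 ^ d := by group
    _ = _ := by rw [← R.e_comm c b]; group

theorem el_zero : R.el 0 = 1 := by simp [el]

theorem el_eq_one {v : Vec n} (h : R.el v = 1) : v = 0 := by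
  obtain ⟨a, b, rfl⟩ := exists_int v
  rw [el_int, R.indep, ← ZMod.intCast_zmod_eq_zero_iff_dvd, ← ZMod.intCast_zmod_eq_zero_iff_dvd] at h
  exact Prod.ext h.1 h.2

theorem el_inj {v w : Vec n} (h : R.el v = R.el w) : v = w := by
  have h1 : R.el (v - w) = 1 := by
    apply mul_right_cancel (b := R.el w)
    rw [← el_add, sub_add_cancel, h, one_mul]
  exact sub_eq_zero.1 (R.el_eq_one h1)

theorem s_e2 : R.s * R.e2 * R.s = R.e1 := by
  rw [← R.se1, ← mul_assoc, ← mul_assoc, R.ss, one_mul, mul_assoc, R.ss, mul_one]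

theorem zpow_flip {x e f : G} (hx : x * x = 1) (h : x * e * x = f) (a : ℤ) :
    x * e ^ a * x = f ^ a := by
  have hi : x⁻¹ = x := inv_eq_of_mul_eq_one_right hx
  have hc : ∀ y, x * y * x = MulAut.conj x y := fun y => by rw [MulAut.conj_apply, hi]
  rw [hc, map_zpow, ← hc, h]

theorem flip_mul {x y z w : G} (hx : x * x = 1) (h1 : x * y * x = z) (h2 : x * w * x = w) :
    x * (y * w) * x = z * w := by
  rw [← h1]
  calc x * (y * w) * x = x * y * (x * x) * w * x := by rw [hx]; group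
    _ = x * y * x * (x * w * x) := by group
    _ = _ := by rw [h2]

theorem i_el (v : Vec n) : R.i * R.el v = R.el (act true false v) * R.i := by
  obtain ⟨a, b, rfl⟩ := exists_int v
  rw [act_tf, show ((-(a : ZMod (2 ^ n)), -(b : ZMod (2 ^ n))) : Vec n) =
    (((-a : ℤ) : ZMod (2 ^ n)), ((-b : ℤ) : ZMod (2 ^ n))) by push_cast; rfl, el_int, el_int]
  have h1 := zpow_flip R.ii R.ie1 a
  have h2 := zpow_flip R.ii R.ie2 b
  rw [inv_zpow'] at h1 h2
  rw [← h1, ← h2]
  calc R.i * (R.e1 ^ a * R.e2 ^ b) = R.i * R.e1 ^ a * (R.i * R.i) * R.e2 ^ b * (R.i * R.i) := by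
        rw [R.ii]; group
    _ = _ := by group

theorem s_el (v : Vec n) : R.s * R.el v = R.el (act false true v) * R.s := by
  obtain ⟨a, b, rfl⟩ := exists_int v
  rw [act_ft, el_int, el_int, ← R.e_comm b a]
  have h1 := zpow_flip R.ss R.se1 a
  have h2 := zpow_flip R.ss R.s_e2 b
  rw [← h1, ← h2]
  calc R.s * (R.e1 ^ a * R.e2 ^ b) = R.s * R.e1 ^ a * (R.s * R.s) * R.e2 ^ b * (R.s * R.s) := by
        rw [R.ss]; group
    _ = _ := by group

/-- The element `i ^ c * s ^ d`. -/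
def fl (c d : Bool) : G :=
  match c, d with
  | false, false => 1
  | true, false => R.i
  | false, true => R.s
  | true, true => R.i * R.s

theorem fl_el (c d : Bool) (v : Vec n) : R.fl c d * R.el v = R.el (act c d v) * R.fl c d := by
  cases c <;> cases d <;> simp only [fl]
  · simp
  · exact R.s_el v
  · exact R.i_el v
  · rw [mul_assoc, R.s_el, ← mul_assoc, R.i_el, act_act, ← mul_assoc]; simp

theorem fl_mul (c d c' d' : Bool) : R.fl c d * R.fl c' d' = R.fl (c ^^ c') (d ^^ d') := by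
  have h1 : R.s * R.i = R.i * R.s := R.is_comm.symm
  have h2 : R.s * (R.i * R.s) = R.i := by rw [← mul_assoc, h1, mul_assoc, R.ss, mul_one]
  have h3 : R.i * (R.i * R.s) = R.s := by rw [← mul_assoc, R.ii, one_mul]
  have h4 : R.i * R.s * R.i = R.s := by rw [mul_assoc, h1, h3]
  have h5 : R.i * R.s * R.s = R.i := by rw [mul_assoc, R.ss, mul_one]
  have h6 : R.i * R.s * (R.i * R.s) = 1 := by rw [← mul_assoc, h4, R.ss]
  cases c <;> cases d <;> cases c' <;> cases d' <;>
    simp [fl, R.ii, R.ss, h1, h2, h3, h4, h5, h6]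

/-- A general element. -/
def El (v : Vec n) (c d : Bool) : G := R.el v * R.fl c d

theorem El_mul (v v' : Vec n) (c d c' d' : Bool) :
    R.El v c d * R.El v' c' d' = R.El (v + act c d v') (c ^^ c') (d ^^ d') := by
  simp only [El, el_add, ← fl_mul]
  calc R.el v * R.fl c d * (R.el v' * R.fl c' d') = R.el v * (R.fl c d * R.el v') * R.fl c' d' := by group
    _ = _ := by rw [fl_el]; group

theorem El_one : R.El 0 false false = 1 := by simp [El, fl, el_zero]

theorem El_inv (v : Vec n) (c d : Bool) : (R.El v c d)⁻¹ = R.El (-act c d v) c d := by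
  refine inv_eq_of_mul_eq_one_right ?_
  rw [El_mul, act_neg, act_act, Bool.xor_self, Bool.xor_self, act_ff, add_neg_cancel, El_one]

theorem El_conj (u v : Vec n) (c' d' c d : Bool) :
    R.El u c' d' * R.El v c d * (R.El u c' d')⁻¹ = R.El (u + act c' d' v - act c d u) c d := by
  rw [El_inv, El_mul, El_mul, act_neg, act_act, sub_eq_add_neg]
  congr 2 <;> cases c' <;> cases d' <;> cases c <;> cases d <;> rfl

include R in
theorem two_pow_ne_one : (1 : ZMod (2 ^ n)) ≠ 0 ∧ (2 : ZMod (2 ^ n)) ≠ 0 := by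
  have h := Nat.pow_le_pow_right two_pos R.hn
  constructor <;> intro h0
  · have := (ZMod.natCast_eq_zero_iff 1 (2 ^ n)).1 (by exact_mod_cast h0)
    have := Nat.le_of_dvd one_pos this
    omega
  · have := (ZMod.natCast_eq_zero_iff 2 (2 ^ n)).1 (by exact_mod_cast h0)
    have := Nat.le_of_dvd two_pos this
    omega

theorem fl_eq_el {c d : Bool} {u : Vec n} (h : R.fl c d = R.el u) : c = false ∧ d = false := by
  obtain ⟨h1, h2⟩ := R.two_pow_ne_one
  have key : ∀ v : Vec n, act c d v = v := fun v => R.el_inj <| by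
    apply mul_right_cancel (b := R.fl c d)
    rw [← fl_el, h, ← el_add, ← el_add, add_comm]
  have k := key (1, 0)
  cases c <;> cases d <;> simp [Prod.ext_iff] at k ⊢
  · exact h1 k.1.symm
  · exact h2 (by linear_combination -k)
  · exact h1 k.1.symm

theorem El_inj {v v' : Vec n} {c d c' d' : Bool} (h : R.El v c d = R.El v' c' d') :
    v = v' ∧ c = c' ∧ d = d' := by
  have h' : R.fl (c ^^ c') (d ^^ d') = R.el (-v + v') := by
    rw [← fl_mul, el_add]
    have hv : R.el (-v) = (R.el v)⁻¹ := by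
      refine (inv_eq_of_mul_eq_one_right ?_).symm
      rw [← el_add, add_neg_cancel, el_zero]
    rw [hv]
    apply mul_right_cancel (b := R.fl c' d')
    rw [mul_assoc, fl_mul, Bool.xor_self, Bool.xor_self]
    simp only [El] at h
    rw [show R.fl c d * R.fl false false = R.fl c d by simp [fl], mul_assoc, ← h]
    group
  obtain ⟨hc, hd⟩ := R.fl_eq_el h'
  obtain rfl : c = c' := by cases c <;> cases c' <;> simp_all
  obtain rfl : d = d' := by cases d <;> cases d' <;> simp_all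
  exact ⟨R.el_inj (mul_right_cancel h), rfl, rfl⟩

theorem El_commute_iff (v v' : Vec n) (c d c' d' : Bool) :
    R.El v c d * R.El v' c' d' = R.El v' c' d' * R.El v c d ↔ v + act c d v' = v' + act c' d' v := by
  rw [El_mul, El_mul, Bool.xor_comm c' c, Bool.xor_comm d' d]
  exact ⟨fun h => (R.El_inj h).1, fun h => by rw [h]⟩

theorem El_sq_iff (v : Vec n) (c d : Bool) : R.El v c d * R.El v c d = 1 ↔ v + act c d v = 0 := by
  rw [El_mul, Bool.xor_self, Bool.xor_self, ← R.El_one]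
  exact ⟨fun h => (R.El_inj h).1, fun h => by rw [h]⟩

/-- `R` describes the whole of `S`. -/
def Full (S : Subgroup G) : Prop := ∀ x, x ∈ S ↔ ∃ v c d, x = R.El v c d

/-- Coordinates. -/
abbrev Par (n : ℕ) := Vec n × Bool × Bool

theorem card_par : Nat.card (Par n) = 2 ^ (2 * n + 2) := by
  rw [Nat.card_prod, Nat.card_prod, Nat.card_prod, Nat.card_zmod, Nat.card_eq_fintype_card, Fintype.card_bool]
  ring

theorem El_mem {S : Subgroup G} (h1 : R.e1 ∈ S) (h2 : R.e2 ∈ S) (h3 : R.i ∈ S) (h4 : R.s ∈ S)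
    (v : Vec n) (c d : Bool) : R.El v c d ∈ S := by
  refine mul_mem (mul_mem (pow_mem h1 _) (pow_mem h2 _)) ?_
  cases c <;> cases d <;> simp [fl, one_mem, h3, h4, mul_mem]

theorem full_of_card [Finite G] {S : Subgroup G} (h1 : R.e1 ∈ S) (h2 : R.e2 ∈ S) (h3 : R.i ∈ S)
    (h4 : R.s ∈ S) (hc : Nat.card S = 2 ^ (2 * n + 2)) : R.Full S := by
  haveI : NeZero (2 ^ n) := ⟨(Nat.two_pow_pos n).ne'⟩
  let f : Par n → S := fun p => ⟨R.El p.1 p.2.1 p.2.2, R.El_mem h1 h2 h3 h4 _ _ _⟩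
  have hf : Function.Injective f := fun p q h => by
    obtain ⟨e, e', e''⟩ := R.El_inj (congrArg Subtype.val h)
    exact Prod.ext e (Prod.ext e' e'')
  have hb : Function.Bijective f := (Nat.bijective_iff_injective_and_card f).2 ⟨hf, card_par.trans hc.symm⟩
  refine fun x => ⟨fun hx => ?_, ?_⟩
  · obtain ⟨p, hp⟩ := hb.2 ⟨x, hx⟩
    exact ⟨_, _, _, (congrArg Subtype.val hp).symm⟩
  · rintro ⟨v, c, d, rfl⟩
    exact R.El_mem h1 h2 h3 h4 _ _ _

/-- The subgroup described by the generators. -/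
def sub : Subgroup G where
  carrier := {x | ∃ v c d, x = R.El v c d}
  one_mem' := ⟨0, false, false, R.El_one.symm⟩
  mul_mem' := by rintro _ _ ⟨v, c, d, rfl⟩ ⟨v', c', d', rfl⟩; exact ⟨_, _, _, R.El_mul v v' c d c' d'⟩
  inv_mem' := by rintro _ ⟨v, c, d, rfl⟩; exact ⟨_, _, _, R.El_inv v c d⟩

theorem full_sub : R.Full R.sub := fun _ => Iff.rfl

theorem card_sub : Nat.card R.sub = 2 ^ (2 * n + 2) := by
  refine (Nat.card_congr (Equiv.ofBijective
    (fun p : Par n => (⟨R.El p.1 p.2.1 p.2.2, ⟨_, _, _, rfl⟩⟩ : R.sub)) ⟨fun p q h => ?_, ?_⟩)).symm.trans card_par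
  · obtain ⟨e, e', e''⟩ := R.El_inj (congrArg Subtype.val h)
    exact Prod.ext e (Prod.ext e' e'')
  · rintro ⟨x, v, c, d, rfl⟩
    exact ⟨(v, c, d), rfl⟩

theorem gens_mem : R.e1 ∈ R.sub ∧ R.e2 ∈ R.sub ∧ R.i ∈ R.sub ∧ R.s ∈ R.sub := by
  refine ⟨⟨(((1 : ℤ) : ZMod (2 ^ n)), ((0 : ℤ) : ZMod (2 ^ n))), false, false, ?_⟩,
    ⟨(((0 : ℤ) : ZMod (2 ^ n)), ((1 : ℤ) : ZMod (2 ^ n))), false, false, ?_⟩,
    ⟨0, true, false, ?_⟩, ⟨0, false, true, ?_⟩⟩
  · rw [El, el_int]; simp [fl]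
  · rw [El, el_int]; simp [fl]
  · rw [El, el_zero]; simp [fl]
  · rw [El, el_zero]; simp [fl]

/-- Transport along a homomorphism injective on the group described. -/
def map {H : Type*} [Group H] (φ : G →* H) (hφ : Function.Injective φ) : Rel H n where
  e1 := φ R.e1
  e2 := φ R.e2
  i := φ R.i
  s := φ R.s
  hn := R.hn
  comm := by rw [← map_mul, R.comm, map_mul]
  ii := by rw [← map_mul, R.ii, map_one]
  ss := by rw [← map_mul, R.ss, map_one]
  is_comm := by rw [← map_mul, R.is_comm, map_mul]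
  ie1 := by rw [← map_mul, ← map_mul, R.ie1, map_inv]
  ie2 := by rw [← map_mul, ← map_mul, R.ie2, map_inv]
  se1 := by rw [← map_mul, ← map_mul, R.se1]
  indep := fun a b => by
    rw [← map_zpow, ← map_zpow, ← map_mul, map_eq_one_iff φ hφ]
    exact R.indep a b

/-- Pull back to a subgroup containing the generators. -/
def restrict {S : Subgroup G} (h1 : R.e1 ∈ S) (h2 : R.e2 ∈ S) (h3 : R.i ∈ S) (h4 : R.s ∈ S) :
    Rel S n where
  e1 := ⟨_, h1⟩
  e2 := ⟨_, h2⟩
  i := ⟨_, h3⟩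
  s := ⟨_, h4⟩
  hn := R.hn
  comm := Subtype.ext R.comm
  ii := Subtype.ext R.ii
  ss := Subtype.ext R.ss
  is_comm := Subtype.ext R.is_comm
  ie1 := Subtype.ext R.ie1
  ie2 := Subtype.ext R.ie2
  se1 := Subtype.ext R.se1
  indep := fun a b => by
    rw [← R.indep a b, Subtype.ext_iff]
    simp

end Rel

end CfsgLib.G2Fusion
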