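import Cfsg.Agent.Lib.G2Invol.Classes
import Cfsg.Agent.Lib.G2Fusion.Model

/-!
The centraliser of the involution of G₂(q) as pairs of 2 × 2 matrices with equal determinants,
and the model Sylow 2-subgroup inside it.
-/

set_option autoImplicit false

namespace CfsgLib.G2Fusion

open Cfsg.Lie CfsgLib.G2Invol
open Matrix

variable {F : Type*} [Field F]

/-- Pairs of invertible matrices of equal determinant. -/
def detPairs (F : Type*) [Field F] : Subgroup (GL (Fin 2) F × GL (Fin 2) F) :=
  MonoidHom.eqLocus (GeneralLinearGroup.det.comp (MonoidHom.fst _ _))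
    (GeneralLinearGroup.det.comp (MonoidHom.snd _ _))

/-- Division of the first column by the determinant. -/
noncomputable def slPart (c : GL (Fin 2) F) : SpecialLinearGroup (Fin 2) F :=
  ⟨!![c.val 0 0 / c.val.det, c.val 0 1; c.val 1 0 / c.val.det, c.val 1 1], by
    have hd : c.val.det ≠ 0 := by rw [← GeneralLinearGroup.val_det_apply]; exact Units.ne_zero _
    rw [det_fin_two_of]
    field_simp
    rw [det_fin_two]⟩

theorem coe_slPart (c : GL (Fin 2) F) : (slPart c : Matrix (Fin 2) (Fin 2) F) =
    !![c.val 0 0 / c.val.det, c.val 0 1; c.val 1 0 / c.val.det, c.val 1 1] := rfl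

theorem slPart_one : slPart (1 : GL (Fin 2) F) = 1 := by
  ext i j
  fin_cases i <;> fin_cases j <;> simp [coe_slPart]

theorem slPart_mul (c c' : GL (Fin 2) F) :
    slPart (c * c') = slPart c * dtwist (GeneralLinearGroup.det c) (slPart c') := by
  have hd : c.val.det ≠ 0 := by rw [← GeneralLinearGroup.val_det_apply]; exact Units.ne_zero _
  have hd' : c'.val.det ≠ 0 := by rw [← GeneralLinearGroup.val_det_apply]; exact Units.ne_zero _
  ext i j
  fin_cases i <;> fin_cases j <;>
    simp [coe_slPart, coe_dtwist, SpecialLinearGroup.coe_mul, mul_apply, Fin.sum_univ_two,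
      GeneralLinearGroup.val_det_apply, det_mul] <;> field_simp

/-- The map onto the centraliser. -/
noncomputable def pairHom (F : Type*) [Field F] : detPairs F →* GL chevG2.Idx F where
  toFun h := psi (slPart h.1.1, slPart h.1.2) *
    tor (GeneralLinearGroup.det h.1.1) (GeneralLinearGroup.det h.1.1)⁻¹
  map_one' := by simp [slPart_one, tor_one, show ((1 : SpecialLinearGroup (Fin 2) F), (1 : SpecialLinearGroup (Fin 2) F)) = 1 from rfl]
  map_mul' a b := by
    set d := GeneralLinearGroup.det a.1.1
    set d' := GeneralLinearGroup.det b.1.1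
    have hd2 : GeneralLinearGroup.det a.1.2 = d := a.2.symm
    have hx : d ^ 3 * d⁻¹ ^ 2 = d := by group
    have hconj : tor d d⁻¹ * psi (slPart b.1.1, slPart b.1.2) =
        psi (dtwist d (slPart b.1.1), dtwist d (slPart b.1.2)) * tor d d⁻¹ := by
      rw [psi_apply, psi_apply]
      conv_rhs => arg 1; arg 2; rw [← hx, ← tor_conj11]
      rw [← tor_conj7 d d⁻¹]
      group
    show psi (slPart (a.1.1 * b.1.1), slPart (a.1.2 * b.1.2)) *
      tor (GeneralLinearGroup.det (a.1.1 * b.1.1)) (GeneralLinearGroup.det (a.1.1 * b.1.1))⁻¹ = _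
    rw [slPart_mul, slPart_mul, hd2, map_mul, mul_inv, ← tor_mul, ← Prod.mk_mul_mk, map_mul]
    calc psi (slPart a.1.1, slPart a.1.2) * psi (dtwist d (slPart b.1.1), dtwist d (slPart b.1.2)) *
          (tor d d⁻¹ * tor d' d'⁻¹)
        = psi (slPart a.1.1, slPart a.1.2) *
          (psi (dtwist d (slPart b.1.1), dtwist d (slPart b.1.2)) * tor d d⁻¹) * tor d' d'⁻¹ := by group
      _ = _ := by rw [← hconj]; group

theorem pairHom_mem (h : detPairs F) : pairHom F h ∈ chevG2.group F :=
  mul_mem (psi_mem_group _) (Chev.diagonal_le_group hcG (tor_mem _))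

/-- Both components are the same scalar. -/
def IsScal (a b : GL (Fin 2) F) : Prop :=
  ∃ t : F, a.val = t • (1 : Matrix (Fin 2) (Fin 2) F) ∧ b.val = t • (1 : Matrix (Fin 2) (Fin 2) F)

theorem pairHom_eq_one_iff (h : detPairs F) : pairHom F h = 1 ↔ IsScal h.1.1 h.1.2 := by
  obtain ⟨⟨c, p⟩, hcp⟩ := h
  have hdet : c.val.det = p.val.det := congrArg Units.val (show GeneralLinearGroup.det c = GeneralLinearGroup.det p from hcp)
  have hd : c.val.det ≠ 0 := by rw [← GeneralLinearGroup.val_det_apply]; exact Units.ne_zero _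
  constructor
  · intro he
    have he' : psi (slPart c, slPart p) = tor (GeneralLinearGroup.det c)⁻¹ (GeneralLinearGroup.det c) := by
      rw [show pairHom F ⟨(c, p), hcp⟩ = psi (slPart c, slPart p) *
        tor (GeneralLinearGroup.det c) (GeneralLinearGroup.det c)⁻¹ from rfl] at he
      rw [eq_inv_of_mul_eq_one_left he]
      exact inv_eq_of_mul_eq_one_right (by rw [tor_mul, mul_inv_cancel, inv_mul_cancel, tor_one])
    obtain ⟨s, u, hA, hB, hs, hu⟩ := psi_eq_tor he'
    have hu' : u = s := by
      rw [inv_eq_iff_eq_inv] at hs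
      rw [hs] at hu
      have := congrArg (fun x => s ^ (3 : ℤ) * x) hu
      simp only [← mul_assoc] at this
      rw [show s ^ (3 : ℤ) * s ^ (-3 : ℤ) = 1 by group, one_mul] at this
      rw [← this]
      group
    have hdv : c.val.det * (s : F) ^ 2 = 1 := by
      have := congrArg Units.val hs
      simp only [Units.val_inv_eq_inv_val, GeneralLinearGroup.val_det_apply, Units.val_pow_eq_pow_val] at this
      rw [← this, mul_inv_cancel₀ hd]
    have key : ∀ e : GL (Fin 2) F, e.val.det = c.val.det → slPart e = dd s →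
        e.val = (s : F)⁻¹ • (1 : Matrix (Fin 2) (Fin 2) F) := by
      intro e hde hes
      have h' := fun i j => congrArg (fun g : SpecialLinearGroup (Fin 2) F => g i j) hes
      have h00 := h' 0 0; have h01 := h' 0 1; have h10 := h' 1 0; have h11 := h' 1 1
      simp [coe_slPart, coe_dd, hde, hd] at h00 h01 h10 h11
      have hs0 := s.ne_zero
      ext i j
      fin_cases i <;> fin_cases j <;> simp [h01, h10, h11]
      field_simp at h00
      field_simp
      linear_combination (s : F) * h00 + hdv
    exact ⟨(s : F)⁻¹, key c rfl hA, key p hdet.symm (hu' ▸ hB)⟩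
  · rintro ⟨t, hc, hp⟩
    simp only at hc hp
    have ht : t ≠ 0 := by rintro rfl; simp [hc] at hd
    set u : Fˣ := Units.mk0 t ht
    have hdu : GeneralLinearGroup.det c = u ^ 2 := by
      apply Units.ext
      rw [GeneralLinearGroup.val_det_apply, hc]
      simp [u]
    have hsl : ∀ e : GL (Fin 2) F, e.val = t • (1 : Matrix (Fin 2) (Fin 2) F) → slPart e = dd u⁻¹ := by
      intro e he
      ext i j
      fin_cases i <;> fin_cases j <;> simp [coe_slPart, coe_dd, he, u] <;> field_simp
    show psi (slPart c, slPart p) * tor (GeneralLinearGroup.det c) (GeneralLinearGroup.det c)⁻¹ = 1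
    rw [hsl c hc, hsl p hp, hdu, psi_apply, phi7_dd, phi11_dd, tor_mul, tor_mul, ← tor_one]
    congr 1 <;> group

end CfsgLib.G2Fusion
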