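import Cfsg.Agent.Lib.G2Fusion.PairHom
import Cfsg.Agent.Lib.TwoFusion.GLTwoSylow
import Cfsg.Agent.Lib.TwoFusion.FusionTools

/-!
Sylow 2-subgroups of G₂(q), q odd, follow the model.
-/

set_option autoImplicit false

namespace CfsgLib.G2Fusion

open Cfsg.Lie CfsgLib.G2Invol CfsgLib.TwoFusion.GLTwoSylow
open Matrix

variable {F : Type*} [Field F]

/-- A scalar matrix. -/
def SC (a : GL (Fin 2) F) : Prop := ∃ t : F, a.val = t • (1 : Matrix (Fin 2) (Fin 2) F)

theorem SC.one : SC (1 : GL (Fin 2) F) := ⟨1, by simp⟩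

theorem SC.mul {a b : GL (Fin 2) F} (ha : SC a) (hb : SC b) : SC (a * b) := by
  obtain ⟨s, hs⟩ := ha; obtain ⟨t, ht⟩ := hb
  exact ⟨s * t, by rw [Units.val_mul, hs, ht, smul_mul_assoc, one_mul, smul_smul]⟩

theorem SC.comm {a : GL (Fin 2) F} (ha : SC a) (b : GL (Fin 2) F) : a * b = b * a := by
  obtain ⟨s, hs⟩ := ha
  exact Units.ext (by rw [Units.val_mul, Units.val_mul, hs, smul_mul_assoc, one_mul, mul_smul_comm, mul_one])

theorem SC.inv {a : GL (Fin 2) F} (ha : SC a) : SC a⁻¹ := by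
  obtain ⟨s, hs⟩ := ha
  have hs0 : s ≠ 0 := by rintro rfl; exact a.ne_zero (by rw [hs, zero_smul])
  have h : s • (a⁻¹).val = 1 := by
    rw [← one_mul (a⁻¹).val, ← smul_mul_assoc, ← hs, a.mul_inv]
  exact ⟨s⁻¹, by rw [← h, smul_smul, inv_mul_cancel₀ hs0, one_smul]⟩

/-- The scalars as a subgroup. -/
def scSub (F : Type*) [Field F] : Subgroup (GL (Fin 2) F) where
  carrier := {a | SC a}
  one_mem' := SC.one
  mul_mem' := SC.mul
  inv_mem' := SC.inv

theorem IsScal.of_eq {a : GL (Fin 2) F} (h : SC a) : IsScal a a := h.imp fun _ ht => ⟨ht, ht⟩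

theorem IsScal.comp {a b : GL (Fin 2) F} (h : IsScal a b) : a = b ∧ SC a := by
  obtain ⟨t, ha, hb⟩ := h
  exact ⟨Units.ext (ha.trans hb.symm), t, ha⟩

theorem scal_of_commute (h2 : (2 : F) ≠ 0) {X K V : GL (Fin 2) F}
    (hVK : (V * K).val = -(K * V).val) (hK : X * K = K * X) (hV : X * V = V * X) : SC X := by
  by_contra hns
  have key : ∀ s : F, X.val ≠ s • 1 := fun s hs => hns ⟨s, hs⟩
  have hkv : K.val * V.val = V.val * K.val := by
    have aux : ∀ A : Matrix (Fin 2) (Fin 2) F, A * X.val = X.val * A →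
        A 0 1 * X.val 1 0 = X.val 0 1 * A 1 0 ∧
        (A 0 0 - A 1 1) * X.val 0 1 = A 0 1 * (X.val 0 0 - X.val 1 1) ∧
        (A 0 0 - A 1 1) * X.val 1 0 = A 1 0 * (X.val 0 0 - X.val 1 1) := by
      intro A h
      have e00 := congrFun (congrFun h 0) 0
      have e01 := congrFun (congrFun h 0) 1
      have e10 := congrFun (congrFun h 1) 0
      simp [Matrix.mul_apply, Fin.sum_univ_two] at e00 e01 e10
      exact ⟨by linear_combination e00, by linear_combination e01, by linear_combination -e10⟩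
    obtain ⟨a1, a2, a3⟩ := aux K.val (congrArg Units.val hK).symm
    obtain ⟨b1, b2, b3⟩ := aux V.val (congrArg Units.val hV).symm
    have hne : X.val 0 1 ≠ 0 ∨ X.val 1 0 ≠ 0 ∨ X.val 0 0 - X.val 1 1 ≠ 0 := by
      by_contra h
      push Not at h
      obtain ⟨h1, h3, h4⟩ := h
      refine key (X.val 0 0) ?_
      ext i j
      fin_cases i <;> fin_cases j <;> simp [h1, h3]
      linear_combination -h4
    obtain ⟨k1, k2, k3⟩ : K.val 0 1 * V.val 1 0 = V.val 0 1 * K.val 1 0 ∧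
        (K.val 0 0 - K.val 1 1) * V.val 0 1 = K.val 0 1 * (V.val 0 0 - V.val 1 1) ∧
        (K.val 0 0 - K.val 1 1) * V.val 1 0 = K.val 1 0 * (V.val 0 0 - V.val 1 1) := by
      rcases hne with h | h | h
      · have k1 : K.val 0 1 * V.val 1 0 = V.val 0 1 * K.val 1 0 :=
          mul_left_cancel₀ h (by linear_combination V.val 0 1 * a1 - K.val 0 1 * b1)
        exact ⟨k1, mul_left_cancel₀ h (by linear_combination V.val 0 1 * a2 - K.val 0 1 * b2),
          mul_left_cancel₀ h (by linear_combination V.val 1 0 * a2 - K.val 1 0 * b2 + (X.val 0 0 - X.val 1 1) * k1)⟩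
      · have k1 : K.val 0 1 * V.val 1 0 = V.val 0 1 * K.val 1 0 :=
          mul_left_cancel₀ h (by linear_combination V.val 1 0 * a1 - K.val 1 0 * b1)
        exact ⟨k1, mul_left_cancel₀ h (by
            linear_combination V.val 0 1 * a3 - K.val 0 1 * b3 - (X.val 0 0 - X.val 1 1) * k1),
          mul_left_cancel₀ h (by linear_combination V.val 1 0 * a3 - K.val 1 0 * b3)⟩
      · have k3 : (K.val 0 0 - K.val 1 1) * V.val 1 0 = K.val 1 0 * (V.val 0 0 - V.val 1 1) :=
          mul_left_cancel₀ h (by linear_combination (K.val 0 0 - K.val 1 1) * (-b3) + (V.val 0 0 - V.val 1 1) * a3)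
        exact ⟨mul_left_cancel₀ h (by linear_combination -V.val 1 0 * a2 + K.val 1 0 * b2 + X.val 0 1 * k3),
          mul_left_cancel₀ h (by linear_combination (K.val 0 0 - K.val 1 1) * (-b2) + (V.val 0 0 - V.val 1 1) * a2), k3⟩
    ext i j
    fin_cases i <;> fin_cases j <;> simp [Matrix.mul_apply, Fin.sum_univ_two]
    · linear_combination k1
    · linear_combination k2
    · linear_combination -k3
    · linear_combination -k1
  rw [Units.val_mul, ← hkv] at hVK
  have h0 : (2 : F) • (K * V).val = 0 := by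
    rw [two_smul]; nth_rewrite 2 [Units.val_mul]; rw [hVK, add_neg_cancel]
  exact (K * V).ne_zero ((smul_eq_zero.1 h0).resolve_left h2)

theorem conj_SC {a V : GL (Fin 2) F} (ha : SC a) : V * a * V⁻¹ = a := by
  rw [← ha.comm V, mul_inv_cancel_right]

/-- Generators from a torus element and two anticommuting matrices. -/
theorem exists_rel (h2 : (2 : F) ≠ 0) {n : ℕ} (hn : 2 ≤ n) (D K V : GL (Fin 2) F) (κ : F)
    (hDK : D * K = K * D) (hVK : (V * K).val = -(K * V).val) (hK : (K * K).val = κ • 1)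
    (hV : (V * V).val = κ • 1) (hdet : GeneralLinearGroup.det K = GeneralLinearGroup.det V)
    (hDD : SC (V * D * V⁻¹ * D)) (hscal : ∀ k : ℤ, SC (D ^ k) ↔ ((2 ^ n : ℕ) : ℤ) ∣ k) :
    Nonempty (Rel ↥(chevG2.group F) n) := by
  set D' := V * D * V⁻¹ with hD'
  have hdetD' : GeneralLinearGroup.det D' = GeneralLinearGroup.det D := by
    rw [hD', map_mul, map_mul, map_inv, mul_comm, ← mul_assoc, inv_mul_cancel, one_mul]
  have hKK : SC (K * K) := ⟨κ, hK⟩
  have hVV : SC (V * V) := ⟨κ, hV⟩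
  have hVVKK : V * V = K * K := Units.ext (hV.trans hK.symm)
  have hcomD : D' * D = D * D' := by
    apply mul_right_cancel (b := D)
    rw [mul_assoc D D' D]
    exact hDD.comm D
  have hKD' : D' * K = K * D' := by
    apply mul_right_cancel (b := D)
    rw [mul_assoc, ← hDK, ← mul_assoc, hDD.comm K]; group
  have hVD' : V * D' = D * V := by
    calc V * D' = V * V * D * V⁻¹ := by rw [hD']; group
      _ = D * (V * V) * V⁻¹ := by rw [hVV.comm D]
      _ = _ := by group
  have hVKD : V * K * D = D' * (V * K) := by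
    rw [mul_assoc, ← hDK, hD']; group
  have hVKD' : V * K * D' = D * (V * K) := by
    rw [mul_assoc, ← hKD', ← mul_assoc, hVD', mul_assoc]
  have hVKVK : SC (V * K * (V * K)) := by
    refine ⟨-(κ * κ), ?_⟩
    calc (V * K * (V * K)).val = V.val * ((K * V).val * K.val) := by simp [mul_assoc]
      _ = -((V * V).val * (K * K).val) := by
          rw [show (K * V).val = -(V * K).val by rw [hVK, neg_neg]]; simp [mul_assoc]
      _ = _ := by rw [hV, hK, smul_mul_assoc, one_mul, smul_smul, neg_smul]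
  let f : detPairs F →* ↥(chevG2.group F) := (pairHom F).codRestrict _ pairHom_mem
  have hf : ∀ a : detPairs F, f a = 1 ↔ IsScal a.1.1 a.1.2 := fun a => by
    rw [← pairHom_eq_one_iff]; exact Subtype.ext_iff
  let P1 : detPairs F := ⟨(D, D), rfl⟩
  let P2 : detPairs F := ⟨(D', D), hdetD'⟩
  let PI : detPairs F := ⟨(V * K, V * K), rfl⟩
  let PS : detPairs F := ⟨(V, K), hdet.symm⟩
  have hprod : ∀ a b c : detPairs F, f a = (f b)⁻¹ ↔ f (a * b) = 1 := fun a b c => by
    rw [map_mul, mul_eq_one_iff_eq_inv]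
  refine ⟨⟨f P1, f P2, f PI, f PS, hn, ?_, ?_, ?_, ?_, ?_, ?_, ?_, ?_⟩⟩
  · rw [← map_mul, ← map_mul]
    exact congrArg f (Subtype.ext (Prod.ext hcomD.symm rfl))
  · rw [← map_mul, hf]; exact IsScal.of_eq hVKVK
  · rw [← map_mul, hf]
    show IsScal (V * V) (K * K)
    rw [← hVVKK]; exact IsScal.of_eq hVV
  · rw [← mul_inv_eq_one, ← map_mul, ← map_mul, ← map_inv, ← map_mul, hf]
    refine ⟨-1, ?_, ?_⟩
    · show (V * K * V * (V * (V * K))⁻¹).val = _
      have : (V * K * V).val = -(V * (V * K)).val := by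
        rw [Units.val_mul V (V * K), hVK, mul_assoc, Units.val_mul]; simp
      rw [Units.val_mul, this, neg_mul, Units.mul_inv, neg_one_smul]
    · show (V * K * K * (K * (V * K))⁻¹).val = _
      have : (V * K * K).val = -(K * (V * K)).val := by
        rw [Units.val_mul (V * K) K, hVK, ← mul_assoc K V K, Units.val_mul (K * V) K]; simp
      rw [Units.val_mul, this, neg_mul, Units.mul_inv, neg_one_smul]
  · rw [← map_mul, ← map_mul, hprod _ _ P1, hf]
    show IsScal (V * K * D * (V * K) * D) (V * K * D * (V * K) * D)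
    refine IsScal.of_eq ?_
    rw [hVKD, mul_assoc D', ← hVKVK.comm D', mul_assoc]
    exact hVKVK.mul hDD
  · rw [← map_mul, ← map_mul, hprod _ _ P1, hf]
    show IsScal (V * K * D' * (V * K) * D') (V * K * D * (V * K) * D)
    have e1 : V * K * D' * (V * K) * D' = V * K * (V * K) * (D' * D) := by
      rw [hVKD', mul_assoc D, ← hVKVK.comm D, mul_assoc, ← hcomD]
    have e2 : V * K * D * (V * K) * D = V * K * (V * K) * (D' * D) := by
      rw [hVKD, mul_assoc D', ← hVKVK.comm D', mul_assoc]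
    rw [e1, e2]
    exact IsScal.of_eq (hVKVK.mul hDD)
  · rw [← mul_inv_eq_one, ← map_mul, ← map_mul, ← map_inv, ← map_mul, hf]
    show IsScal (V * D * V * D'⁻¹) (K * D * K * D⁻¹)
    have e1 : V * D * V * D'⁻¹ = V * V := by
      rw [show V * D * V = D' * (V * V) by rw [hD']; group, ← hVV.comm D', mul_inv_cancel_right]
    have e2 : K * D * K * D⁻¹ = K * K := by
      rw [← hDK, mul_assoc D, ← hKK.comm D, mul_inv_cancel_right]
    rw [e1, e2, ← hVVKK]
    exact IsScal.of_eq hVV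
  · intro a b
    rw [← map_zpow, ← map_zpow, ← map_mul, hf]
    show IsScal ((D ^ a) * D' ^ b) (D ^ a * D ^ b) ↔ _
    have hD'b : D' ^ b = V * D ^ b * V⁻¹ := by rw [hD', conj_zpow]
    constructor
    · intro h
      obtain ⟨he, hsc⟩ := h.comp
      have he' : D' ^ b = D ^ b := mul_left_cancel he
      have hb : SC (D ^ b) := by
        refine scal_of_commute h2 hVK (Commute.zpow_left hDK b).eq ?_
        rw [hD'b, mul_inv_eq_iff_eq_mul] at he'
        exact he'.symm
      rw [he, ← _root_.zpow_add, hscal] at hsc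
      rw [hscal] at hb
      exact ⟨(dvd_add_left hb).1 hsc, hb⟩
    · rintro ⟨ha, hb⟩
      rw [hD'b, conj_SC ((hscal b).2 hb)]
      exact IsScal.of_eq (((hscal a).2 ha).mul ((hscal b).2 hb))

theorem dvd_of_zpow_mem {G : Type*} [Group G] {H : Subgroup G} {x : G} {n : ℕ} (hn : 1 ≤ n)
    (h1 : x ^ (2 ^ n) ∈ H) (h2 : x ^ (2 ^ (n - 1)) ∉ H) {k : ℤ} (hk : x ^ k ∈ H) :
    ((2 ^ n : ℕ) : ℤ) ∣ k := by
  have hd : Int.gcd k ((2 ^ n : ℕ) : ℤ) ∣ 2 ^ n := Int.natCast_dvd_natCast.1 (Int.gcd_dvd_right _ _)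
  obtain ⟨j, hj, hje⟩ := (Nat.dvd_prime_pow Nat.prime_two).1 hd
  rcases Nat.lt_or_ge j n with hlt | hge
  · exfalso
    refine h2 ?_
    have hmem : x ^ ((2 ^ j : ℕ) : ℤ) ∈ H := by
      rw [← hje, Int.gcd_eq_gcd_ab, _root_.zpow_add, _root_.zpow_mul, _root_.zpow_mul, zpow_natCast]
      exact mul_mem (zpow_mem hk _) (zpow_mem h1 _)
    rw [zpow_natCast] at hmem
    rw [show n - 1 = j + (n - 1 - j) by omega, pow_add, pow_mul]
    exact pow_mem hmem _
  · rw [show n = j by omega, ← hje]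
    exact Int.gcd_dvd_left _ _

variable [Fintype F]

theorem exists_rel_one (h4 : Fintype.card F % 4 = 1) :
    ∃ n r, Odd r ∧ Fintype.card F ^ 2 - 1 = 2 ^ (n + 1) * r ∧ Nonempty (Rel ↥(chevG2.group F) n) := by
  have h1 : 1 < Fintype.card F := Fintype.one_lt_card
  have h2 : (2 : F) ≠ 0 := two_ne_zero_of_odd (Nat.odd_iff.mpr (by omega))
  obtain ⟨n, r, hn, hr, hm⟩ := two_part (m := Fintype.card F - 1) (by omega) (by omega)
  obtain ⟨s, hs, hs'⟩ : ∃ s, Odd s ∧ Fintype.card F + 1 = 2 * s :=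
    ⟨(Fintype.card F + 1) / 2, Nat.odd_iff.mpr (by omega), by omega⟩
  obtain ⟨g, hg⟩ := exists_unit_order (F := F) (d := 2 ^ n) ⟨r, hm⟩
  refine ⟨n, r * s, hr.mul hs, ?_, ?_⟩
  · rw [show Fintype.card F ^ 2 - 1 = (Fintype.card F + 1) * (Fintype.card F - 1) by
      rw [← Nat.sq_sub_sq, one_pow], hs', hm]
    ring
  refine exists_rel h2 hn (dg g 1) (dg 1 (-1)) sw 1 ?_ ?_ ?_ ?_ ?_ ?_ fun k => ?_
  · show dgHom (g, 1) * dgHom (1, -1) = dgHom (1, -1) * dgHom (g, 1)
    rw [← map_mul, ← map_mul, mul_comm]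
  · simp only [Units.val_mul, dg_val, sw_val]
    ext i j; fin_cases i <;> fin_cases j <;> simp
  · simp only [Units.val_mul, dg_val, one_smul]
    ext i j; fin_cases i <;> fin_cases j <;> simp
  · simp only [Units.val_mul, sw_val, one_smul]
    ext i j; fin_cases i <;> fin_cases j <;> simp
  · apply Units.ext
    simp [GeneralLinearGroup.val_det_apply, dg_val, sw_val, det_fin_two]
  · rw [(wreathed_data g).2.2]
    refine ⟨g, ?_⟩
    simp only [Units.val_mul, dg_val]
    ext i j; fin_cases i <;> fin_cases j <;> simp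
  · have hk : dg g 1 ^ k = dg (g ^ k) 1 := by
      show dgHom (g, 1) ^ k = dgHom (g ^ k, 1)
      rw [← map_zpow]; simp
    rw [hk, ← hg, orderOf_dvd_iff_zpow_eq_one]
    constructor
    · rintro ⟨t, ht⟩
      have e0 := congrFun (congrFun ht 0) 0
      have e1 := congrFun (congrFun ht 1) 1
      simp only [dg_val] at e0 e1
      simp at e0 e1
      exact Units.ext (by simp [e0, ← e1])
    · intro h
      exact ⟨1, by rw [h, dg_val]; ext i j; fin_cases i <;> fin_cases j <;> simp⟩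

/-- A matrix of determinant `-1` and order `2 ^ (b + 1)` in a non-split torus. -/
theorem exists_nonsplit (h4 : Fintype.card F % 4 = 3) {b r : ℕ} (hb : 2 ≤ b) (hr : Odd r)
    (hm : Fintype.card F + 1 = 2 ^ b * r) :
    ∃ (X Y : GL (Fin 2) F), GeneralLinearGroup.det X = -1 ∧ GeneralLinearGroup.det Y = -1 ∧
      X.val ^ (2 ^ b) = -1 ∧ Y * Y = 1 ∧ Y * X * Y⁻¹ * X = X ^ (2 ^ b) := by
  have h2 : (2 : F) ≠ 0 := two_ne_zero_of_odd (Nat.odd_iff.mpr (by omega))
  let K := AlgebraicClosure F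
  let φ : F →+* K := algebraMap F K
  have h2K : (2 : K) ≠ 0 := fun h => h2 (φ.injective (by rw [map_ofNat, map_zero, h]))
  haveI : NeZero ((2 ^ (b + 1) : ℕ) : K) := ⟨by
    rw [Nat.cast_pow, Nat.cast_ofNat]; exact pow_ne_zero _ h2K⟩
  obtain ⟨l, hl⟩ := IsAlgClosed.exists_root (Polynomial.cyclotomic (2 ^ (b + 1)) K) (by
    rw [Polynomial.degree_cyclotomic]
    exact_mod_cast (Nat.totient_pos.mpr (pow_pos two_pos _)).ne')
  rw [Polynomial.isRoot_cyclotomic_iff] at hl
  have hhalf : l ^ (2 ^ b) = -1 := by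
    have h := hl.pow (pow_pos two_pos _) (show 2 ^ (b + 1) = 2 ^ b * 2 by rw [pow_succ])
    exact h.eq_neg_one_of_two_right
  have hl0 : l ≠ 0 := hl.ne_zero (pow_ne_zero _ two_ne_zero)
  have hq1 : l ^ Fintype.card F * l = -1 := by
    rw [← pow_succ, hm, pow_mul, hhalf, hr.neg_one_pow]
  obtain ⟨T, hT⟩ : ∃ T : F, φ T = l - l⁻¹ := by
    obtain ⟨p, hp⟩ := CharP.exists F
    obtain ⟨f, hpp, hc⟩ := FiniteField.card F p
    haveI : Fact p.Prime := ⟨hpp⟩
    haveI : CharP K p := charP_of_injective_ringHom φ.injective p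
    have hfix : (l - l⁻¹) ^ Fintype.card F = l - l⁻¹ := by
      have hlq : l ^ Fintype.card F = -l⁻¹ := by
        rw [eq_neg_iff_add_eq_zero]
        apply mul_right_cancel₀ hl0
        rw [add_mul, hq1, inv_mul_cancel₀ hl0, zero_mul, neg_add_cancel]
      rw [hc, sub_pow_char_pow, ← hc, inv_pow, hlq, inv_neg, inv_inv]
      ring
    by_contra hne
    push Not at hne
    classical
    have hcard := Polynomial.card_le_degree_of_subset_roots
      (p := (Polynomial.X ^ Fintype.card F - Polynomial.X : Polynomial K))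
      (Z := insert (l - l⁻¹) (Finset.univ.image φ)) (fun x hx => ?_)
    · rw [Finset.card_insert_of_notMem (by simpa using hne), Finset.card_image_of_injective _ φ.injective,
        Finset.card_univ, FiniteField.X_pow_card_sub_X_natDegree_eq K (Fintype.one_lt_card)] at hcard
      omega
    · simp only [Finset.mem_val, Finset.mem_insert, Finset.mem_image, Finset.mem_univ, true_and] at hx
      rw [Polynomial.mem_roots (FiniteField.X_pow_card_sub_X_ne_zero K Fintype.one_lt_card)]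
      rcases hx with rfl | ⟨c, rfl⟩
      · simp [hfix]
      · simp [← map_pow, FiniteField.pow_card]
  let X : GL (Fin 2) F := GeneralLinearGroup.mkOfDetNeZero !![0, 1; 1, T] (by simp [det_fin_two_of])
  let Y : GL (Fin 2) F := GeneralLinearGroup.mkOfDetNeZero !![1, 0; T, -1] (by simp [det_fin_two_of])
  have hXv : (X : Matrix (Fin 2) (Fin 2) F) = !![0, 1; 1, T] := rfl
  have hYv : (Y : Matrix (Fin 2) (Fin 2) F) = !![1, 0; T, -1] := rfl
  have hX2 : (X : Matrix (Fin 2) (Fin 2) F) * X = T • (X : Matrix (Fin 2) (Fin 2) F) + 1 := by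
    rw [hXv]; ext i j; fin_cases i <;> fin_cases j <;> simp <;> ring
  have hpow := pow_eq_neg_one φ _ T hX2 (Units.mk0 l hl0) b hb hhalf h2K hT
  obtain ⟨-, hrel⟩ := qd_data X Y T b h2 hX2 hpow
    (by rw [hXv, hYv]; ext i j; fin_cases i <;> fin_cases j <;> simp [Matrix.mul_apply, Fin.sum_univ_two] <;> ring)
  refine ⟨X, Y, Units.ext ?_, Units.ext ?_, hpow, Units.ext ?_, hrel⟩
  · simp [GeneralLinearGroup.val_det_apply, hXv, det_fin_two]
  · simp [GeneralLinearGroup.val_det_apply, hYv, det_fin_two]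
  · rw [Units.val_mul, hYv, Units.val_one]
    ext i j; fin_cases i <;> fin_cases j <;> simp

theorem exists_rel_three (h4 : Fintype.card F % 4 = 3) :
    ∃ n r, Odd r ∧ Fintype.card F ^ 2 - 1 = 2 ^ (n + 1) * r ∧ Nonempty (Rel ↥(chevG2.group F) n) := by
  have h2 : (2 : F) ≠ 0 := two_ne_zero_of_odd (Nat.odd_iff.mpr (by omega))
  obtain ⟨n, r, hn, hr, hm⟩ := two_part (m := Fintype.card F + 1) (by omega) (by omega)
  obtain ⟨s, hs, hs'⟩ : ∃ s, Odd s ∧ Fintype.card F - 1 = 2 * s :=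
    ⟨(Fintype.card F - 1) / 2, Nat.odd_iff.mpr (by omega), by omega⟩
  obtain ⟨X, Y, hdX, hdY, hpow, hYY, hrel⟩ := exists_nonsplit h4 hn hr hm
  refine ⟨n, r * s, hr.mul hs, ?_, ?_⟩
  · rw [show Fintype.card F ^ 2 - 1 = (Fintype.card F + 1) * (Fintype.card F - 1) by
      rw [← Nat.sq_sub_sq, one_pow], hs', hm]
    ring
  set K := X ^ (2 ^ (n - 1)) with hKdef
  have hKK' : K * K = X ^ (2 ^ n) := by
    rw [hKdef, ← pow_add, ← two_mul, ← pow_succ', show n - 1 + 1 = n by omega]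
  have hXn : (X ^ (2 ^ n)).val = (-1 : F) • (1 : Matrix (Fin 2) (Fin 2) F) := by
    rw [Units.val_pow_eq_pow_val, hpow, neg_one_smul]
  have hKK : (K * K).val = (-1 : F) • (1 : Matrix (Fin 2) (Fin 2) F) := by rw [hKK', hXn]
  have hev : Even (2 ^ (n - 1)) := Nat.even_pow.mpr ⟨even_two, by omega⟩
  have hsq : ¬ IsSquare (-1 : F) := fun h => (FiniteField.isSquare_neg_one_iff.1 h) h4
  have hKns : ¬ SC K := by
    rintro ⟨t, ht⟩
    rw [Units.val_mul, ht, smul_mul_assoc, one_mul, smul_smul] at hKK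
    have := congrFun (congrFun hKK 0) 0
    simp at this
    exact hsq ⟨t, this.symm⟩
  have hYi : Y⁻¹ = Y := inv_eq_of_mul_eq_one_right hYY
  have hconj : Y * X * Y⁻¹ = X ^ (2 ^ n) * X⁻¹ := eq_mul_inv_of_mul_eq hrel
  have hYK : (Y * K).val = -(K * Y).val := by
    have h1 : Y * K * Y⁻¹ * K = (X ^ (2 ^ n)) ^ (2 ^ (n - 1)) := by
      rw [hKdef, ← conj_pow, hconj, (((Commute.refl X).pow_left _).inv_right).mul_pow, inv_pow, inv_mul_cancel_right]
    have h3 : ((X ^ (2 ^ n)) ^ (2 ^ (n - 1))).val = 1 := by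
      rw [Units.val_pow_eq_pow_val, hXn, neg_one_smul, hev.neg_one_pow]
    have h4' : Y * K * Y⁻¹ = K⁻¹ := by
      rw [eq_inv_iff_mul_eq_one, h1]; exact Units.ext h3
    have hKi : (K⁻¹).val = -K.val := by
      have : (K⁻¹).val = (K⁻¹).val * (-(K * K).val) := by rw [hKK, neg_one_smul, neg_neg, mul_one]
      rw [this, mul_neg, Units.val_mul, ← mul_assoc, Units.inv_mul, one_mul]
    rw [mul_inv_eq_iff_eq_mul] at h4'
    rw [h4', Units.val_mul, hKi, neg_mul, Units.val_mul]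
  refine exists_rel h2 hn X K (Y * X) (-1) ?_ ?_ hKK ?_ ?_ ?_ fun k => ?_
  · exact ((Commute.refl X).pow_right _).eq
  · have hc : X * K = K * X := ((Commute.refl X).pow_right _).eq
    rw [show Y * X * K = Y * K * X by rw [mul_assoc, hc, ← mul_assoc], Units.val_mul, hYK,
      show K * (Y * X) = K * Y * X by rw [mul_assoc], Units.val_mul (K * Y) X, neg_mul]
  · rw [show Y * X * (Y * X) = Y * X * Y⁻¹ * X by rw [hYi]; group, hrel, hXn]
  · rw [hKdef, map_pow, map_mul, hdX, hdY, neg_mul_neg, one_mul, hev.neg_one_pow]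
  · refine ⟨-1, ?_⟩
    rw [show Y * X * X * (Y * X)⁻¹ * X = Y * X * Y⁻¹ * X by group, hrel, hXn]
  · refine ⟨fun h => dvd_of_zpow_mem (H := scSub F) (x := X) (by omega) ⟨-1, hXn⟩ hKns h, ?_⟩
    rintro ⟨c, rfl⟩
    rw [_root_.zpow_mul, zpow_natCast]
    exact (scSub F).zpow_mem (x := X ^ (2 ^ n)) ⟨-1, hXn⟩ c

theorem two_part_group (hodd : Fintype.card F % 2 = 1) {n r : ℕ} (hr : Odd r)
    (h : Fintype.card F ^ 2 - 1 = 2 ^ (n + 1) * r) :
    ∃ t, Odd t ∧ Nat.card ↥(chevG2.group F) = 2 ^ (2 * n + 2) * t := by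
  set q := Fintype.card F
  have hq : Odd q := Nat.odd_iff.2 hodd
  refine ⟨q ^ 6 * r ^ 2 * (q ^ 4 + q ^ 2 + 1), (hq.pow.mul hr.pow).mul ((hq.pow.add_odd hq.pow).add_one), ?_⟩
  rw [Chev.card_group_G2 (F := F) rfl]
  have h6 : q ^ 6 - 1 = (q ^ 2 - 1) * (q ^ 4 + q ^ 2 + 1) := by
    have hq1 : 1 ≤ q := hq.pos
    have h0 : (q ^ 2 - 1) + 1 = q ^ 2 := Nat.sub_add_cancel (Nat.one_le_pow _ _ (by omega))
    generalize q ^ 2 - 1 = a at h0 ⊢
    rw [show q ^ 6 = (q ^ 2) ^ 3 by ring, show q ^ 4 = (q ^ 2) ^ 2 by ring, ← h0]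
    apply Nat.sub_eq_of_eq_add
    ring
  rw [h6, h]
  ring

/-- **Sylow 2-subgroups of G₂(q) follow the model.** -/
theorem exists_sylow_rel (hF : Odd (Fintype.card F)) (P : Sylow 2 ↥(chevG2.group F)) :
    ∃ (n : ℕ) (R : Rel ↥(P : Subgroup ↥(chevG2.group F)) n),
      Nat.card ↥(P : Subgroup ↥(chevG2.group F)) = 2 ^ (2 * n + 2) := by
  haveI : Finite (GL chevG2.Idx F) := inferInstance
  have hodd : Fintype.card F % 2 = 1 := Nat.odd_iff.1 hF
  obtain ⟨n, r, hr, hqr, ⟨R⟩⟩ :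
      ∃ n r, Odd r ∧ Fintype.card F ^ 2 - 1 = 2 ^ (n + 1) * r ∧ Nonempty (Rel ↥(chevG2.group F) n) := by
    rcases (show Fintype.card F % 4 = 1 ∨ Fintype.card F % 4 = 3 by omega) with h | h
    · exact exists_rel_one h
    · exact exists_rel_three h
  obtain ⟨t, ht, hcard⟩ := two_part_group hodd hr hqr
  have hP := card_sylow_two hcard ht P
  obtain ⟨P', hP'⟩ := TwoFusion.FusionTools.exists_sylow_eq P R.sub (IsPGroup.of_card R.card_sub)
    (by rw [hP, R.card_sub])
  let e : ↥R.sub ≃* ↥(P : Subgroup ↥(chevG2.group F)) :=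
    (MulEquiv.subgroupCongr hP'.symm).trans (P'.equiv P)
  obtain ⟨h1, h2, h3, h4⟩ := R.gens_mem
  exact ⟨n, (R.restrict h1 h2 h3 h4).map e.toMonoidHom e.injective, hP⟩

end CfsgLib.G2Fusion
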